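import Cfsg.Agent.Lib.Fusion.System.Alperin
import Cfsg.Agent.Lib.Fusion.System.GroupFocal
import Cfsg.Agent.Lib.MaxClassFusion.Coords

/-!
# Subgroups of a Sylow two-subgroup that are not essential
-/

set_option autoImplicit false
set_option linter.style.haveILetI false

open Cfsg (groupFusionSystem autInducedBy)
open Cfsg.FusionSystem (normalizerIn centralizerIn)

namespace CfsgLib.Spor.SixtyFour

open CfsgLib.Fusion

/-! ### An abstract group with a Sylow subgroup of order four -/

section Abstract

variable {X : Type*} [Group X] [Finite X]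

theorem no_normal_prime {V Q : Subgroup X} [Q.Normal] {p : ℕ} (hp : p = 3 ∨ p = 7)
    (hQ : Nat.card Q = p) (hV : Nat.card V = 4)
    (hc : ∀ u ∈ V, u ≠ 1 → u * u = 1 → ∀ b, b * u = u * b → Odd (orderOf b) → b = 1) : False := by
  have hpp : p.Prime := by rcases hp with rfl | rfl <;> norm_num
  haveI : Fact p.Prime := ⟨hpp⟩
  haveI : IsCyclic Q := isCyclic_of_prime_card hQ
  haveI : Fact (Nat.Prime 2) := ⟨Nat.prime_two⟩
  set φ : V →* MulAut Q := (MulAut.conjNormal (H := Q)).comp V.subtype with hφ
  have h1 : Nat.card φ.range ∣ p - 1 := by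
    have := Subgroup.card_subgroup_dvd_card φ.range
    rwa [IsCyclic.card_mulAut, hQ, Nat.totient_prime hpp] at this
  have h2 : Nat.card φ.range ∣ 4 := hV ▸ Subgroup.card_range_dvd φ
  have h3 : Nat.card φ.range ∣ 2 := by
    rcases hp with rfl | rfl
    · exact h1
    · exact (Nat.dvd_gcd h1 h2).trans (by norm_num)
  have h4 : 2 ∣ Nat.card φ.ker := by
    have := φ.ker.card_mul_index
    rw [Subgroup.index_ker, hV] at this
    rcases (Nat.dvd_prime Nat.prime_two).1 h3 with h | h <;> rw [h] at this <;> omega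
  obtain ⟨u, hu⟩ := exists_prime_orderOf_dvd_card' 2 h4
  have hu2 : u * u = 1 := by rw [← pow_two, ← hu, pow_orderOf_eq_one]
  have hne : u ≠ 1 := fun h => by rw [h, orderOf_one] at hu; omega
  obtain ⟨b, hb⟩ := exists_prime_orderOf_dvd_card' (G := Q) p (hQ ▸ dvd_refl p)
  have hcb : (b : X) * ((u : V) : X) = ((u : V) : X) * (b : X) := by
    have := congrArg Subtype.val (DFunLike.congr_fun (MonoidHom.mem_ker.1 u.2) b)
    simp only [hφ, MonoidHom.coe_comp, Function.comp_apply, MulAut.conjNormal_apply,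
      Subgroup.coe_subtype, MulAut.one_apply] at this
    exact (mul_inv_eq_iff_eq_mul.1 this).symm
  have := hc _ (u : V).2 (fun h => hne (Subtype.ext (Subtype.ext h)))
    (congrArg (fun w : φ.ker => ((w : V) : X)) hu2) b hcb
    (by rw [Subgroup.orderOf_coe, hb]; rcases hp with rfl | rfl <;> decide)
  rw [← Subgroup.orderOf_coe, this, orderOf_one] at hb
  exact hpp.ne_one hb.symm

/-- Such a group has a nontrivial normal two-subgroup. -/
theorem exists_normal_two (hX : Nat.card X ∣ 168) {V : Subgroup X} (hV : Nat.card V = 4)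
    (hVi : ¬ 2 ∣ V.index)
    (hc : ∀ u ∈ V, u ≠ 1 → u * u = 1 → ∀ b, b * u = u * b → Odd (orderOf b) → b = 1) :
    ∃ N : Subgroup X, N.Normal ∧ IsPGroup 2 N ∧ N ≠ ⊥ := by
  have hmul := V.card_mul_index
  rw [hV] at hmul
  have hd : V.index ∣ 21 := by
    have h42 : V.index ∣ 42 := by
      refine Nat.dvd_of_mul_dvd_mul_left (by norm_num : 0 < 4) ?_
      rw [hmul]; exact hX.trans (by norm_num)
    have hco : Nat.Coprime V.index 2 := (Nat.prime_two.coprime_iff_not_dvd.2 hVi).symm
    exact hco.dvd_of_dvd_mul_left (m := 2) (by simpa using h42)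
  have hm : V.index = 1 ∨ V.index = 3 ∨ V.index = 7 ∨ V.index = 21 := by
    have := Nat.le_of_dvd (by norm_num) hd
    interval_cases V.index <;> omega
  rcases hm with hm | hm | hm | hm
  · refine ⟨V, ?_, IsPGroup.of_card (n := 2) (by rw [hV]; norm_num), ?_⟩
    · rw [Subgroup.index_eq_one.1 hm]; infer_instance
    · intro h; rw [h, Subgroup.card_bot] at hV; omega
  · -- order twelve
    haveI : Fact (Nat.Prime 3) := ⟨by norm_num⟩
    rw [hm] at hmul
    obtain ⟨Q⟩ : Nonempty (Sylow 3 X) := inferInstance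
    have hQ : Nat.card Q = 3 := by
      rw [Q.card_eq_multiplicity, ← hmul]
      norm_num [show (12 : ℕ).factorization 3 = 1 by
        rw [Nat.factorization_def _ (by norm_num)]; decide +kernel]
    have hQi : (Q : Subgroup X).index = 4 := by
      have := (Q : Subgroup X).card_mul_index
      rw [hQ] at this; omega
    have hn : Nat.card (Sylow 3 X) ∣ 4 := hQi ▸ Q.card_dvd_index
    have hn3 : Nat.card (Sylow 3 X) ≡ 1 [MOD 3] := card_sylow_modEq_one 3 X
    by_cases h1 : Nat.card (Sylow 3 X) = 1
    · haveI : Subsingleton (Sylow 3 X) := (Nat.card_eq_one_iff_unique.1 h1).1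
      haveI := Sylow.normal_of_subsingleton Q
      exact (no_normal_prime (Or.inl rfl) hQ hV hc).elim
    · have h4 : (Subgroup.normalizer (Q : Set X)).index = 4 := by
        rw [← Sylow.card_eq_index_normalizer]
        have := Nat.le_of_dvd (by norm_num) hn
        interval_cases hk : Nat.card (Sylow 3 X) <;> simp_all (config := { decide := true })
      have hNQ : Subgroup.normalizer (Q : Set X) = (Q : Subgroup X) :=
        (Subgroup.eq_of_le_of_card_ge Subgroup.le_normalizer (by
          have h' := (Subgroup.normalizer (Q : Set X)).card_mul_index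
          rw [h4, ← hmul] at h'
          show Nat.card (Subgroup.normalizer (Q : Set X)) ≤ Nat.card Q
          rw [hQ]; omega)).symm
      haveI : IsCyclic Q := isCyclic_of_prime_card hQ
      have hNC : Subgroup.normalizer ((Q : Subgroup X) : Set X) ≤
          Subgroup.centralizer ((Q : Subgroup X) : Set X) := by
        rw [show Subgroup.normalizer ((Q : Subgroup X) : Set X) = (Q : Subgroup X) from hNQ]
        intro a ha
        rw [Subgroup.mem_centralizer_iff]
        intro b hb
        exact congrArg Subtype.val ((IsCyclic.commGroup (α := Q)).mul_comm ⟨b, hb⟩ ⟨a, ha⟩)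
      refine ⟨(MonoidHom.transferSylow Q hNC).ker, inferInstance, ?_, ?_⟩
      all_goals
        have hcomp := MonoidHom.ker_transferSylow_isComplement' Q hNC
        have hk := hcomp.card_mul_card
        rw [hQ, ← hmul] at hk
      · exact IsPGroup.of_card (n := 2) (by rw [show (2 : ℕ) ^ 2 = 4 from rfl]; omega)
      · intro h
        rw [h, Subgroup.card_bot] at hk
        omega
  all_goals
    haveI : Fact (Nat.Prime 7) := ⟨by norm_num⟩
    rw [hm] at hmul
    obtain ⟨Q⟩ : Nonempty (Sylow 7 X) := inferInstance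
    have hQ : Nat.card Q = 7 := by
      rw [Q.card_eq_multiplicity, ← hmul]
      norm_num [show (28 : ℕ).factorization 7 = 1 by
        rw [Nat.factorization_def _ (by norm_num)]; decide +kernel,
        show (84 : ℕ).factorization 7 = 1 by
        rw [Nat.factorization_def _ (by norm_num)]; decide +kernel]
    have hQm := (Q : Subgroup X).card_mul_index
    rw [hQ] at hQm
    have hn : Nat.card (Sylow 7 X) ∣ 12 :=
      Q.card_dvd_index.trans (by
        rcases (show (Q : Subgroup X).index = 4 ∨ (Q : Subgroup X).index = 12 by omega) with h | h <;>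
          rw [h] <;> norm_num)
    have hn7 : Nat.card (Sylow 7 X) ≡ 1 [MOD 7] := card_sylow_modEq_one 7 X
    have h1 : Nat.card (Sylow 7 X) = 1 := by
      have := Nat.le_of_dvd (by norm_num) hn
      interval_cases hk : Nat.card (Sylow 7 X) <;> simp_all (config := { decide := true })
    haveI : Subsingleton (Sylow 7 X) := (Nat.card_eq_one_iff_unique.1 h1).1
    haveI := Sylow.normal_of_subsingleton Q
    exact (no_normal_prime (Or.inr rfl) hQ hV hc).elim

end Abstract

/-! ### Chains -/

universe u

variable {G : Type u} [Group G] [Finite G] {R : Subgroup G}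

/-- The automorphisms acting trivially on the factors of a chain. -/
noncomputable def stab {n : ℕ} (Q : ℕ → Subgroup G) (h0 : Q 0 ≤ R)
    (anti : ∀ i < n, Q (i + 1) ≤ Q i) : Subgroup (MulAut R) :=
  let T : Set (MulAut R) := {α | ∀ i < n, ∀ z ∈ Q i, autFun α z * z⁻¹ ∈ Q (i + 1)}
  have hle : ∀ i ≤ n, Q i ≤ R := by
    intro i hi
    induction i with
    | zero => exact h0
    | succ i ih => exact (anti i (by omega)).trans (ih (by omega))
  have hone : (1 : MulAut R) ∈ T := fun i hi z hz => by
    rw [autFun_one (hle i hi.le hz), mul_inv_cancel]; exact one_mem _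
  have hmul : ∀ α ∈ T, ∀ β ∈ T, α * β ∈ T := fun α ha β hb i hi z hz => by
    have hz' : autFun β z ∈ Q i := by
      simpa using mul_mem (anti i hi (hb i hi z hz)) hz
    have e : autFun (α * β) z * z⁻¹ =
        (autFun α (autFun β z) * (autFun β z)⁻¹) * (autFun β z * z⁻¹) := by
      rw [autFun_mul _ _ (hle i hi.le hz)]; group
    rw [e]
    exact mul_mem (ha i hi _ hz') (hb i hi z hz)
  { carrier := T
    one_mem' := hone
    mul_mem' := fun {a b} ha hb => hmul a ha b hb
    inv_mem' := fun {a} ha => by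
      haveI := finite_mulAut (P := R)
      have hp : ∀ k : ℕ, a ^ k ∈ T := by
        intro k
        induction k with
        | zero => simpa using hone
        | succ k ih => rw [pow_succ]; exact hmul _ ih _ ha
      have e : a⁻¹ = a ^ (orderOf a - 1) := by
        refine (eq_inv_of_mul_eq_one_left ?_).symm
        rw [← pow_succ, Nat.sub_add_cancel (orderOf_pos a), pow_orderOf_eq_one]
      rw [e]
      exact hp _ }

theorem mem_stab {n : ℕ} {Q : ℕ → Subgroup G} {h0 : Q 0 ≤ R} {anti : ∀ i < n, Q (i + 1) ≤ Q i}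
    {α : MulAut R} :
    α ∈ stab Q h0 anti ↔ ∀ i < n, ∀ z ∈ Q i, autFun α z * z⁻¹ ∈ Q (i + 1) := Iff.rfl

theorem pow_eq_one_of_mem_stab {n : ℕ} {Q : ℕ → Subgroup G} {h0 : Q 0 = R}
    {anti : ∀ i < n, Q (i + 1) ≤ Q i} (bot : Q n = ⊥) (hexp : ∀ z ∈ R, z ^ 64 = 1)
    {α : MulAut R} (hα : α ∈ stab Q h0.le anti) : α ^ 2 ^ (6 * n) = 1 := by
  have hle : ∀ i ≤ n, Q i ≤ R := by
    intro i hi
    induction i with
    | zero => exact h0.le
    | succ i ih => exact (anti i (by omega)).trans (ih (by omega))
  have key : ∀ j ≤ n, ∀ z ∈ Q (n - j), autFun (α ^ 2 ^ (6 * j)) z = z := by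
    intro j
    induction j with
    | zero =>
      intro _ z hz
      rw [Nat.sub_zero, bot, Subgroup.mem_bot] at hz
      subst hz
      rw [autFun_apply _ (one_mem R)]
      exact congrArg Subtype.val (map_one _)
    | succ j ih =>
      intro hj z hz
      set β := α ^ 2 ^ (6 * j) with hβ
      have hd := (pow_mem hα (2 ^ (6 * j)) : β ∈ stab Q h0.le anti) (n - (j + 1)) (by omega) z hz
      rw [show n - (j + 1) + 1 = n - j by omega] at hd
      set d := autFun β z * z⁻¹ with hdd
      have hdf : autFun β d = d := ih (by omega) d hd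
      have hzR : z ∈ R := hle _ (by omega) hz
      have hdR : d ∈ R := hle _ (by omega) hd
      have hk : ∀ k : ℕ, autFun (β ^ k) z = d ^ k * z := by
        intro k
        induction k with
        | zero => rw [pow_zero, pow_zero, one_mul, autFun_one hzR]
        | succ k ihk =>
          have hdk : autFun β (d ^ k) = d ^ k := by
            clear ihk
            induction k with
            | zero =>
              rw [pow_zero, autFun_apply _ (one_mem R)]
              exact congrArg Subtype.val (map_one _)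
            | succ k ihd => rw [pow_succ, autFun_map_mul _ (pow_mem hdR k) hdR, ihd, hdf]
          rw [pow_succ', autFun_mul _ _ hzR, ihk, autFun_map_mul _ (pow_mem hdR k) hzR, hdk,
            pow_succ, mul_assoc, hdd, inv_mul_cancel_right]
      have e : 2 ^ (6 * (j + 1)) = 2 ^ (6 * j) * 64 := by
        rw [mul_add, pow_add]; norm_num
      rw [e, pow_mul, ← hβ, hk, hexp d hdR, one_mul]
  refine autFun_ext fun z hz => ?_
  rw [autFun_one hz]
  have := key n le_rfl z (by rw [Nat.sub_self, h0]; exact hz)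
  exact this

variable (S : Sylow 2 G)

theorem not_essential_of_centralizing {x : G} (hx : x ∈ (S : Subgroup G)) (hxR : x ∉ R)
    (hc : ∀ r ∈ R, x * r = r * x) : ¬ (groupFusionSystem (S : Subgroup G)).IsEssential 2 R := by
  intro h
  exact hxR (centralizerIn_le_of_isCentric h.1 ⟨hx, Subgroup.mem_centralizer_iff.2 fun r hr =>
    (hc r hr).symm⟩)

/-- A chain invariant under all automorphisms, stabilized by an outside element. -/
theorem not_essential_of_chain {x : G} (hx : x ∈ (S : Subgroup G)) (hxR : x ∉ R)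
    (hxn : x ∈ Subgroup.normalizer (R : Set G)) {n : ℕ} (Q : ℕ → Subgroup G) (h0 : Q 0 = R)
    (anti : ∀ i < n, Q (i + 1) ≤ Q i) (bot : Q n = ⊥) (hexp : ∀ z ∈ R, z ^ 64 = 1)
    (inv : ∀ α : MulAut R, ∀ i ≤ n, ∀ z ∈ Q i, autFun α z ∈ Q i)
    (hst : ∀ i < n, ∀ z ∈ Q i, x * z * x⁻¹ * z⁻¹ ∈ Q (i + 1)) :
    ¬ (groupFusionSystem (S : Subgroup G)).IsEssential 2 R := by
  intro h
  haveI : Fact (Nat.Prime 2) := ⟨Nat.prime_two⟩
  have hrad := (isRadical_of_isEssential S.2 h).2
  have hRS : R ≤ (S : Subgroup G) := h.2.1.1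
  have hC := centralizerIn_le_of_isCentric h.1
  have hle : ∀ i ≤ n, Q i ≤ R := by
    intro i hi
    induction i with
    | zero => exact h0.le
    | succ i ih => exact (anti i (by omega)).trans (ih (by omega))
  set K := stab Q h0.le anti
  set A := (groupFusionSystem (S : Subgroup G)).autGroup R
  haveI : (K.subgroupOf A).Normal := by
    refine ⟨fun a ha g => ?_⟩
    rw [Subgroup.mem_subgroupOf] at ha ⊢
    intro i hi z hz
    push_cast
    have hzR := hle i hi.le hz
    have hz' : autFun (g : MulAut R)⁻¹ z ∈ Q i := inv _ i hi.le z hz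
    have e := inv (g : MulAut R) (i + 1) hi _ (ha i hi _ hz')
    rw [autFun_map_mul _ (autFun_mem _ (autFun_mem _ hzR)) (inv_mem (autFun_mem _ hzR))] at e
    rw [autFun_mul _ _ hzR, autFun_mul _ _ (autFun_mem _ hzR)]
    have e2 : autFun (g : MulAut R) (autFun (g : MulAut R)⁻¹ z)⁻¹ = z⁻¹ := by
      have h1 := autFun_map_mul (g : MulAut R) (inv_mem (autFun_mem (g : MulAut R)⁻¹ hzR))
        (autFun_mem (g : MulAut R)⁻¹ hzR)
      rw [inv_mul_cancel, autFun_apply _ (one_mem R)] at h1
      have h2 : (((g : MulAut R) ⟨1, one_mem R⟩ : R) : G) = 1 := congrArg Subtype.val (map_one _)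
      rw [h2, ← autFun_mul _ _ hzR, mul_inv_cancel, autFun_one hzR] at h1
      exact eq_inv_of_mul_eq_one_left h1.symm
    rwa [e2] at e
  have hK : IsPGroup 2 (K.subgroupOf A) := fun a =>
    ⟨6 * n, Subtype.ext (Subtype.ext (pow_eq_one_of_mem_stab (h0 := h0) (anti := anti) bot hexp a.2))⟩
  have hm : conjAut x hxn ∈ A := autInducedBy_le_autGroup hRS (conjAut_mem hx hxn)
  have hxK : (⟨_, hm⟩ : A) ∈ K.subgroupOf A := by
    rw [Subgroup.mem_subgroupOf]
    intro i hi z hz
    rw [autFun_conjAut hxn (hle i hi.le hz)]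
    exact hst i hi z hz
  refine hxR (mem_of_conjAut_mem_inn hx hxn hRS hC ?_)
  rw [← hrad]
  exact ⟨⟨_, hm⟩, CfsgLib.Coprime.le_pCore hK hxK, rfl⟩

/-- An elementary abelian subgroup of order eight with normalizer of order thirty-two. -/
theorem not_essential_of_eight (hR : Nat.card R = 8) (hcomm : ∀ a ∈ R, ∀ b ∈ R, a * b = b * a)
    (hsq : ∀ a ∈ R, a * a = 1) (hN : Nat.card (normalizerIn (S : Subgroup G) R) = 32)
    (hinv : ∀ x ∈ normalizerIn (S : Subgroup G) R, x ∉ R → x * x ∈ R → ∀ α : MulAut R,
      (∀ z ∈ R, autFun α (x * z * x⁻¹) = x * autFun α z * x⁻¹) → ∃ k, α ^ 2 ^ k = 1) :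
    ¬ (groupFusionSystem (S : Subgroup G)).IsEssential 2 R := by
  intro h
  haveI : Fact (Nat.Prime 2) := ⟨Nat.prime_two⟩
  have hrad := (isRadical_of_isEssential S.2 h).2
  have hRS : R ≤ (S : Subgroup G) := h.2.1.1
  have hC := centralizerIn_le_of_isCentric h.1
  haveI := finite_mulAut (P := R)
  set F := groupFusionSystem (S : Subgroup G)
  set A := F.autGroup R with hA
  set I := autInducedBy (S : Subgroup G) R with hI
  have hIA : I ≤ A := autInducedBy_le_autGroup hRS
  -- the automizer embeds in a general linear group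
  have hdvd : Nat.card A ∣ 168 := by
    obtain ⟨d, e, Φ, -, -, -, hd, hΦ, -⟩ := CfsgLib.MCFusion.exists_rep 2 R
      (fun a b => Subtype.ext (hcomm a a.2 b b.2))
      (fun a => Subtype.ext (by rw [Subgroup.coe_pow, pow_two]; exact hsq a a.2))
    rw [hR] at hd
    obtain rfl : d = 3 := Nat.pow_right_injective le_rfl (hd.symm.trans (by norm_num))
    have h1 : Nat.card (MulAut R) ∣ Nat.card (CfsgLib.RegUnip.GLw 2 3) :=
      Subgroup.card_dvd_of_injective Φ hΦ
    have h2 : Nat.card (CfsgLib.RegUnip.GLw 2 3) = 168 := by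
      rw [show Nat.card (CfsgLib.RegUnip.GLw 2 3) = Nat.card (GL (Fin 3) (ZMod 2)) from rfl,
        Matrix.card_GL_field, ZMod.card, Fin.prod_univ_three]
      rfl
    exact ((Subgroup.card_subgroup_dvd_card A).trans h1).trans (dvd_of_eq h2)
  -- the induced automorphisms have order four
  set ψ : normalizerIn (S : Subgroup G) R →* MulAut R :=
    MonoidHom.mk' (fun m => conjAut (m : G) m.2.2) (fun a b => autFun_ext fun z hz => by
      rw [autFun_conjAut _ hz, autFun_mul _ _ hz, autFun_conjAut _ hz,
        autFun_conjAut _ ((Subgroup.mem_normalizer_iff.1 b.2.2 z).1 hz), Subgroup.coe_mul]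
      group) with hψ
  have hker : ψ.ker = R.subgroupOf (normalizerIn (S : Subgroup G) R) := by
    ext m
    rw [MonoidHom.mem_ker, Subgroup.mem_subgroupOf]
    constructor
    · intro hm
      refine hC ⟨m.2.1, Subgroup.mem_centralizer_iff.2 fun r hr => ?_⟩
      have := congrArg (fun a => autFun a r) hm
      simp only [hψ, MonoidHom.mk'_apply, autFun_conjAut _ hr, autFun_one hr] at this
      exact (mul_inv_eq_iff_eq_mul.1 this).symm
    · intro hm
      refine autFun_ext fun r hr => ?_
      simp only [hψ, MonoidHom.mk'_apply, autFun_conjAut _ hr, autFun_one hr]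
      rw [hcomm _ hm r hr, mul_inv_cancel_right]
  have hrange : ψ.range = I := by
    ext α
    rw [hI, mem_autInducedBy_iff]
    constructor
    · rintro ⟨m, rfl⟩
      exact ⟨m, m.2.1, fun z hz => autFun_conjAut _ hz⟩
    · rintro ⟨g, hg, e⟩
      exact ⟨⟨g, hg, mem_normalizer_of_autFun e⟩, autFun_ext fun z hz => by
        show autFun (conjAut g _) z = autFun α z
        rw [autFun_conjAut _ hz, e z hz]⟩
  have hI4 : Nat.card I = 4 := by
    have h1 := ψ.ker.card_mul_index
    rw [Subgroup.index_ker, hrange, hN, hker, Nat.card_congr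
      (Subgroup.subgroupOfEquivOfLe (le_normalizerIn hRS)).toEquiv, hR] at h1
    omega
  set V := I.subgroupOf A
  have hV : Nat.card V = 4 := by
    rw [Nat.card_congr (Subgroup.subgroupOfEquivOfLe hIA).toEquiv, hI4]
  have hVi : ¬ 2 ∣ V.index :=
    ((isFullyAutomized_iff S.2).1 (IsSaturated.automized_receptive S.2 (isSaturated_group S) h.2.1).1).2
  obtain ⟨N, hNn, hN2, hN1⟩ := exists_normal_two hdvd hV hVi (by
    intro u hu hu1 hu2 b hb hbo
    obtain ⟨g, hg, e⟩ := mem_autInducedBy_iff.1 (show (u : MulAut R) ∈ I from hu)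
    have hgn : g ∈ normalizerIn (S : Subgroup G) R := ⟨hg, mem_normalizer_of_autFun e⟩
    have hgR : g ∉ R := fun hgR => hu1 (Subtype.ext (autFun_ext fun z hz => by
      rw [e z hz, hcomm g hgR z hz, mul_inv_cancel_right]
      exact (autFun_one hz).symm))
    have hgg : g * g ∈ R := by
      refine hC ⟨mul_mem hg hg, Subgroup.mem_centralizer_iff.2 fun r hr => ?_⟩
      have h1 := congrArg (fun a : A => autFun (a : MulAut R) r) hu2
      simp only [Subgroup.coe_mul, Subgroup.coe_one, autFun_mul _ _ hr, e r hr,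
        e _ ((Subgroup.mem_normalizer_iff.1 hgn.2 r).1 hr), autFun_one hr] at h1
      calc r * (g * g) = g * (g * r * g⁻¹) * g⁻¹ * (g * g) := by rw [h1]
        _ = g * g * r := by group
    obtain ⟨k, hk⟩ := hinv g hgn hgR hgg (b : MulAut R) fun z hz => by
      have h1 := congrArg (fun a : A => autFun (a : MulAut R) z) hb
      simp only [Subgroup.coe_mul, autFun_mul _ _ hz, e z hz, e _ (autFun_mem _ hz)] at h1
      exact h1
    exact orderOf_eq_one_iff.1 (Nat.eq_one_of_dvd_coprimes
      (Nat.Coprime.pow_right k hbo.coprime_two_right) dvd_rfl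
      (orderOf_dvd_of_pow_eq_one (Subtype.ext (by rw [Subgroup.coe_pow]; exact hk)))))
  refine hN1 ((eq_bot_iff).2 fun a ha => ?_)
  have h1 : ((a : A) : MulAut R) ∈ Cfsg.Inn R := by
    rw [← hrad]; exact ⟨a, CfsgLib.Coprime.le_pCore hN2 ha, rfl⟩
  obtain ⟨c, hc⟩ := h1
  rw [Subgroup.mem_bot]
  refine Subtype.ext (autFun_ext fun z hz => ?_)
  rw [← hc, autFun_apply _ hz, Subgroup.coe_one, autFun_one hz]
  show ((c * ⟨z, hz⟩ * c⁻¹ : R) : G) = z
  rw [Subgroup.coe_mul, Subgroup.coe_mul, Subgroup.coe_inv, hcomm _ c.2 z hz, mul_inv_cancel_right]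

end CfsgLib.Spor.SixtyFour
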