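import Cfsg.Agent.Lib.Spor.SixtyFour.CheckFast

/-!
# The finite check for `w = 4`, one declaration for each `A`
-/

set_option autoImplicit false
set_option maxRecDepth 10000

namespace CfsgLib.Spor.SixtyFour.CheckFour

theorem at0 : coverAt 4 0 = true := by decide +kernel
theorem at1 : coverAt 4 1 = true := by decide +kernel
theorem at2 : coverAt 4 2 = true := by decide +kernel
theorem at3 : coverAt 4 3 = true := by decide +kernel
theorem at4 : coverAt 4 4 = true := by decide +kernel
theorem at5 : coverAt 4 5 = true := by decide +kernel
theorem at6 : coverAt 4 6 = true := by decide +kernel
theorem at7 : coverAt 4 7 = true := by decide +kernel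
theorem at8 : coverAt 4 8 = true := by decide +kernel
theorem at9 : coverAt 4 9 = true := by decide +kernel
theorem at10 : coverAt 4 10 = true := by decide +kernel
theorem at11 : coverAt 4 11 = true := by decide +kernel
theorem at12 : coverAt 4 12 = true := by decide +kernel
theorem at13 : coverAt 4 13 = true := by decide +kernel
theorem at14 : coverAt 4 14 = true := by decide +kernel
theorem at15 : coverAt 4 15 = true := by decide +kernel
theorem at16 : coverAt 4 16 = true := by decide +kernel
theorem at17 : coverAt 4 17 = true := by decide +kernel
theorem at18 : coverAt 4 18 = true := by decide +kernel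
theorem at19 : coverAt 4 19 = true := by decide +kernel
theorem at20 : coverAt 4 20 = true := by decide +kernel
theorem at21 : coverAt 4 21 = true := by decide +kernel
theorem at22 : coverAt 4 22 = true := by decide +kernel
theorem at23 : coverAt 4 23 = true := by decide +kernel
theorem at24 : coverAt 4 24 = true := by decide +kernel
theorem at25 : coverAt 4 25 = true := by decide +kernel
theorem at26 : coverAt 4 26 = true := by decide +kernel
theorem at27 : coverAt 4 27 = true := by decide +kernel
theorem at28 : coverAt 4 28 = true := by decide +kernel
theorem at29 : coverAt 4 29 = true := by decide +kernel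
theorem at30 : coverAt 4 30 = true := by decide +kernel
theorem at31 : coverAt 4 31 = true := by decide +kernel

theorem all_true : ∀ A < 32, coverAt 4 A = true := by
  intro A hA
  interval_cases A
  exacts [at0, at1, at2, at3, at4, at5, at6, at7, at8, at9, at10, at11, at12, at13, at14, at15, at16, at17, at18, at19, at20, at21, at22, at23, at24, at25, at26, at27, at28, at29, at30, at31]

end CfsgLib.Spor.SixtyFour.CheckFour
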