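import Cfsg.Agent.Lib.Spor.SixtyFour.CheckDefs

/-!
# The packed tables of the seven groups
-/

set_option autoImplicit false
set_option maxRecDepth 10000

namespace CfsgLib.Spor.SixtyFour

theorem table0_true : ((List.range 64).all fun m =>
    (List.range 64).all fun n => tbl (table 0) m n == (canon 0).mul m n) = true := by
  decide +kernel

theorem table1_true : ((List.range 64).all fun m =>
    (List.range 64).all fun n => tbl (table 1) m n == (canon 1).mul m n) = true := by
  decide +kernel

theorem table2_true : ((List.range 64).all fun m =>
    (List.range 64).all fun n => tbl (table 2) m n == (canon 2).mul m n) = true := by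
  decide +kernel

theorem table3_true : ((List.range 64).all fun m =>
    (List.range 64).all fun n => tbl (table 3) m n == (canon 3).mul m n) = true := by
  decide +kernel

theorem table4_true : ((List.range 64).all fun m =>
    (List.range 64).all fun n => tbl (table 4) m n == (canon 4).mul m n) = true := by
  decide +kernel

theorem table5_true : ((List.range 64).all fun m =>
    (List.range 64).all fun n => tbl (table 5) m n == (canon 5).mul m n) = true := by
  decide +kernel

theorem table6_true : ((List.range 64).all fun m =>
    (List.range 64).all fun n => tbl (table 6) m n == (canon 6).mul m n) = true := by
  decide +kernel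

theorem tables_spec {k m n : ℕ} (hk : k < 7) (hm : m < 64) (hn : n < 64) :
    tbl (table k) m n = (canon k).mul m n := by
  have h : ((List.range 64).all fun m => (List.range 64).all fun n =>
      tbl (table k) m n == (canon k).mul m n) = true := by
    interval_cases k
    exacts [table0_true, table1_true, table2_true, table3_true, table4_true, table5_true,
      table6_true]
  simp only [List.all_eq_true, List.mem_range, beq_iff_eq] at h
  exact h m hm n hn

end CfsgLib.Spor.SixtyFour
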