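import Cfsg.Agent.Lib.Spor.SixtyFour.CheckZero
import Cfsg.Agent.Lib.Spor.SixtyFour.CheckFour
import Cfsg.Agent.Lib.Spor.SixtyFour.CheckTables

/-!
# The finite check that the seven types are all
-/

set_option autoImplicit false

namespace CfsgLib.Spor.SixtyFour

theorem cover_spec {w A B C G : ℕ} (hw : w = 0 ∨ w = 4) (hA : A < 32) (hB : B < 32) (hC : C < 32)
    (hG : G < 32) (cA : okA w A = true) (cB : okB w A B = true) (cC : okC w A B C = true)
    (cG : okG ⟨w, A, B, C, G⟩ = true) :
    ∃ r : Row, rowCheck ⟨w, A, B, C, G⟩ r = true := by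
  have hcov : coverAt w A = true := by
    rcases hw with rfl | rfl
    · exact CheckZero.all_true A hA
    · exact CheckFour.all_true A hA
  rw [coverAt, okAF_eq hw hA, cA] at hcov
  simp only [Bool.not_true, Bool.false_or, List.all_eq_true, List.mem_range, Bool.or_eq_true,
    Bool.not_eq_true', List.any_eq_true, beq_iff_eq] at hcov
  obtain ⟨r, hr, hkey⟩ := (((hcov B hB).resolve_left (by rw [okBF_eq hw hA hB, cB]; simp) C
    hC).resolve_left (by rw [okCF_eq hw hA hB hC, cC]; simp) G hG).resolve_left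
    (by rw [okGF_eq hw hA hB hC hG, cG]; simp)
  refine ⟨r, ?_⟩
  have h := List.all_eq_true.1 rows_true r hr
  rwa [hkey] at h

end CfsgLib.Spor.SixtyFour
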