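import Mathlib

/-!
# Coordinates on a group of order 64
-/

set_option autoImplicit false

namespace CfsgLib.Spor.SixtyFour

/-- An entry of a packed 64 × 64 table. -/
def tbl (T m n : ℕ) : ℕ := (T >>> (6 * (64 * m + n))) % 64

theorem tbl_lt (T m n : ℕ) : tbl T m n < 64 := Nat.mod_lt _ (by norm_num)

/-- A bijection of the codes below 64 with a group, carrying `mu` to the product. -/
structure Coord {P : Type*} [Group P] (mu : ℕ → ℕ → ℕ) (e : ℕ → P) : Prop where
  lt : ∀ m < 64, ∀ n < 64, mu m n < 64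
  mul : ∀ m < 64, ∀ n < 64, e (mu m n) = e m * e n
  inj : ∀ m < 64, ∀ n < 64, e m = e n → m = n
  surj : ∀ s : P, ∃ n < 64, e n = s

namespace Coord

variable {P Q : Type*} [Group P] [Group Q] {mu : ℕ → ℕ → ℕ} {e : ℕ → P} (h : Coord mu e)
include h

theorem one_zero (h0 : mu 0 0 = 0) : e 0 = 1 := by
  have := h.mul 0 (by norm_num) 0 (by norm_num)
  rw [h0] at this
  exact (mul_eq_left.1 this.symm)

/-- The code of an element. -/
noncomputable def code (s : P) : ℕ := (h.surj s).choose

theorem code_lt (s : P) : h.code s < 64 := (h.surj s).choose_spec.1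

theorem e_code (s : P) : e (h.code s) = s := (h.surj s).choose_spec.2

theorem code_e {n : ℕ} (hn : n < 64) : h.code (e n) = n :=
  h.inj _ (h.code_lt _) _ hn (h.e_code _)

theorem code_mul (a b : P) : h.code (a * b) = mu (h.code a) (h.code b) := by
  refine h.inj _ (h.code_lt _) _ (h.lt _ (h.code_lt a) _ (h.code_lt b)) ?_
  rw [h.mul _ (h.code_lt a) _ (h.code_lt b), h.e_code, h.e_code, h.e_code]

theorem code_injective : Function.Injective h.code := fun a b he => by
  rw [← h.e_code a, ← h.e_code b, he]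

theorem congr {mu' : ℕ → ℕ → ℕ} (he : ∀ m < 64, ∀ n < 64, mu' m n = mu m n) : Coord mu' e where
  lt m hm n hn := he m hm n hn ▸ h.lt m hm n hn
  mul m hm n hn := he m hm n hn ▸ h.mul m hm n hn
  inj := h.inj
  surj := h.surj

/-- Two groups with the same table are isomorphic. -/
theorem mulEquiv {e' : ℕ → Q} (h' : Coord mu e') : Nonempty (P ≃* Q) := by
  refine ⟨MulEquiv.mk' ⟨fun a => e' (h.code a), fun b => e (h'.code b), fun a => ?_, fun b => ?_⟩
    fun a b => ?_⟩
  · show e (h'.code (e' (h.code a))) = a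
    rw [h'.code_e (h.code_lt a), h.e_code]
  · show e' (h.code (e (h'.code b))) = b
    rw [h.code_e (h'.code_lt b), h'.e_code]
  · show e' (h.code (a * b)) = e' (h.code a) * e' (h.code b)
    rw [h.code_mul, h'.mul _ (h.code_lt a) _ (h.code_lt b)]

end Coord

end CfsgLib.Spor.SixtyFour
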