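import Cfsg.Agent.Lib.Spor.SixtyFour.Tables
import Cfsg.Agent.Lib.Spor.SixtyFour.Coord

/-!
# The finite check: definitions
-/

set_option autoImplicit false

namespace CfsgLib.Spor.SixtyFour

/-! ### The finite checks -/

def okA (w A : ℕ) : Bool := decide (8 ≤ A) && (hpow w A 8 == 0)

def okB (w A B : ℕ) : Bool :=
  (hmul w B B == 0) && (hmul w B A == hmul w (hpow w A 3) B)

def okC (w A B C : ℕ) : Bool :=
  (hmul w C C == 0) && ((hmul w C A == hmul w (hpow w A 5) C) &&
    (hmul w C B == hmul w (hpow w A w) (hmul w B C)))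

def okG (p : Par) : Bool :=
  [1, 8, 16, 32].all fun n => p.stepT (p.stepT n) == hmul p.w p.G n

/-- The image of the code `n` under four generators. -/
def img (p : Par) (g : List ℕ) (n : ℕ) : ℕ :=
  (p.mul (g.getD 0 0))^[n % 8] ((p.mul (g.getD 1 0))^[n / 8 % 2]
    ((p.mul (g.getD 2 0))^[n / 16 % 2] ((p.mul (g.getD 3 0))^[n / 32] 0)))

def relCheck (p q : Par) (g : List ℕ) : Bool :=
  let F := g.getD 0 0
  let X := g.getD 1 0
  let Y := g.getD 2 0
  let T := g.getD 3 0
  [F, X, Y, T].all (fun a => decide (a < 64)) &&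
  ((p.mul F)^[8] 0 == 0) && (p.mul X X == 0) && (p.mul Y Y == 0) &&
  (p.mul X F == (p.mul F)^[3] X) && (p.mul Y F == (p.mul F)^[5] Y) &&
  (p.mul Y X == (p.mul F)^[q.w] (p.mul X Y)) &&
  (p.mul T F == p.mul (img p g q.A) T) && (p.mul T X == p.mul (img p g q.B) T) &&
  (p.mul T Y == p.mul (img p g q.C) T) && (p.mul T T == img p g q.G)

def rowCheck (p : Par) (r : Row) : Bool :=
  decide (r.k < 7) && relCheck p (canon r.k) r.gen &&
  (List.range 4).all fun j =>
    decide (r.back.getD j 0 < 64) && (img p r.gen (r.back.getD j 0) == [1, 8, 16, 32].getD j 0)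

/-- The parameters of a key. -/
def parOf : List ℕ → Par
  | [w, A, B, C, G] => ⟨w, A, B, C, G⟩
  | _ => ⟨0, 0, 0, 0, 0⟩

end CfsgLib.Spor.SixtyFour
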