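import Cfsg.Agent.Lib.Spor.SixtyFour.CheckFast

/-!
# The finite check for `w = 0`, one declaration for each `A`
-/

set_option autoImplicit false
set_option maxRecDepth 10000

namespace CfsgLib.Spor.SixtyFour.CheckZero

theorem at0 : coverAt 0 0 = true := by decide +kernel
theorem at1 : coverAt 0 1 = true := by decide +kernel
theorem at2 : coverAt 0 2 = true := by decide +kernel
theorem at3 : coverAt 0 3 = true := by decide +kernel
theorem at4 : coverAt 0 4 = true := by decide +kernel
theorem at5 : coverAt 0 5 = true := by decide +kernel
theorem at6 : coverAt 0 6 = true := by decide +kernel
theorem at7 : coverAt 0 7 = true := by decide +kernel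
theorem at8 : coverAt 0 8 = true := by decide +kernel
theorem at9 : coverAt 0 9 = true := by decide +kernel
theorem at10 : coverAt 0 10 = true := by decide +kernel
theorem at11 : coverAt 0 11 = true := by decide +kernel
theorem at12 : coverAt 0 12 = true := by decide +kernel
theorem at13 : coverAt 0 13 = true := by decide +kernel
theorem at14 : coverAt 0 14 = true := by decide +kernel
theorem at15 : coverAt 0 15 = true := by decide +kernel
theorem at16 : coverAt 0 16 = true := by decide +kernel
theorem at17 : coverAt 0 17 = true := by decide +kernel
theorem at18 : coverAt 0 18 = true := by decide +kernel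
theorem at19 : coverAt 0 19 = true := by decide +kernel
theorem at20 : coverAt 0 20 = true := by decide +kernel
theorem at21 : coverAt 0 21 = true := by decide +kernel
theorem at22 : coverAt 0 22 = true := by decide +kernel
theorem at23 : coverAt 0 23 = true := by decide +kernel
theorem at24 : coverAt 0 24 = true := by decide +kernel
theorem at25 : coverAt 0 25 = true := by decide +kernel
theorem at26 : coverAt 0 26 = true := by decide +kernel
theorem at27 : coverAt 0 27 = true := by decide +kernel
theorem at28 : coverAt 0 28 = true := by decide +kernel
theorem at29 : coverAt 0 29 = true := by decide +kernel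
theorem at30 : coverAt 0 30 = true := by decide +kernel
theorem at31 : coverAt 0 31 = true := by decide +kernel

theorem all_true : ∀ A < 32, coverAt 0 A = true := by
  intro A hA
  interval_cases A
  exacts [at0, at1, at2, at3, at4, at5, at6, at7, at8, at9, at10, at11, at12, at13, at14, at15, at16, at17, at18, at19, at20, at21, at22, at23, at24, at25, at26, at27, at28, at29, at30, at31]

end CfsgLib.Spor.SixtyFour.CheckZero
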