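import Cfsg.Agent.Lib.Spor.SixtyFour.Check

/-!
# Groups of order 64 with a self-centralising element of order 8 rational in the group
-/

set_option autoImplicit false
set_option maxRecDepth 10000

namespace CfsgLib.Spor.SixtyFour

theorem bounds_true : ((List.range 7).all fun k => decide ((canon k).G < 32 ∧ (canon k).A < 32 ∧
    (canon k).B < 32 ∧ (canon k).C < 32)) = true := by
  decide +kernel

theorem pow_sep_fin : ∀ a b c d : Fin 2,
    (3 ^ a.val * 5 ^ b.val) % 8 = (3 ^ c.val * 5 ^ d.val) % 8 → a = c ∧ b = d := by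
  decide

theorem pow_sep (a : ℕ) (ha : a < 2) (b : ℕ) (hb : b < 2) (c : ℕ) (hc : c < 2) (d : ℕ) (hd : d < 2)
    (h : (3 ^ a * 5 ^ b) % 8 = (3 ^ c * 5 ^ d) % 8) : a = c ∧ b = d := by
  have := pow_sep_fin ⟨a, ha⟩ ⟨b, hb⟩ ⟨c, hc⟩ ⟨d, hd⟩ h
  exact ⟨congrArg Fin.val this.1, congrArg Fin.val this.2⟩

theorem odd_cases : ∀ k < 8, k % 2 = 1 → ∃ a < 2, ∃ b < 2, (3 ^ a * 5 ^ b) % 8 = k := by
  decide

theorem lift_square : ∀ v < 8, (5 * v) % 8 = v → ∃ i < 8, (i + 5 * i + v) % 8 = 0 := by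
  decide

theorem lift_invol : ∀ u < 8, (3 * u) % 8 = u → ∃ i < 8, (i + 3 * i + u) % 8 = 0 := by
  decide

theorem twist : ∀ w < 8, (5 * w + w) % 8 = 0 → (w + 3 * w) % 8 = 0 → w = 0 ∨ w = 4 := by
  decide

/-! ### The proof -/

variable {P : Type*} [Group P]

theorem pow_mul_eq_one_of {a b : P} (h : a = b * a) : b = 1 :=
  mul_eq_right.1 h.symm

/-- A checked row gives coordinates of the canonical type. -/
theorem coord_of_row [Finite P] {p : Par} {f x y t : P} (hR : Rel p f x y t)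
    (hcard : Nat.card P = 64)
    (inj64 : ∀ m < 64, ∀ n < 64, word f x y t m = word f x y t n → m = n)
    (hsurj : ∀ s : P, ∃ n < 64, word f x y t n = s) {r : Row} (hr : rowCheck p r = true) :
    ∃ k < 7, ∃ e : ℕ → P, Coord (tbl (table k)) e := by
  simp only [rowCheck, relCheck, Bool.and_eq_true, decide_eq_true_eq, List.all_eq_true,
    List.mem_range, beq_iff_eq] at hr
  obtain ⟨⟨hk, hrel⟩, hback⟩ := hr
  obtain ⟨⟨⟨⟨⟨⟨⟨⟨⟨⟨hlt, f8⟩, xx⟩, yy⟩, xf⟩, yf⟩, yx⟩, tf⟩, tx⟩, ty⟩, tt⟩ := hrel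
  set F := r.gen.getD 0 0 with hFd
  set X := r.gen.getD 1 0 with hXd
  set Y := r.gen.getD 2 0 with hYd
  set T := r.gen.getD 3 0 with hTd
  have hF : F < 64 := hlt F (by simp)
  have hX : X < 64 := hlt X (by simp)
  have hY : Y < 64 := hlt Y (by simp)
  have hT : T < 64 := hlt T (by simp)
  set q := canon r.k with hq
  have hb := bounds_true
  simp only [List.all_eq_true, List.mem_range, decide_eq_true_eq] at hb
  obtain ⟨qG, qA, qB, qC⟩ := hb r.k hk
  set W : ℕ → P := word f x y t with hWd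
  have hit : ∀ a < 64, ∀ k n, n < 64 → (p.mul a)^[k] n < 64 ∧ W ((p.mul a)^[k] n) = W a ^ k * W n := by
    intro a ha k
    induction k with
    | zero => intro n hn; exact ⟨hn, by simp⟩
    | succ k ih =>
      intro n hn
      obtain ⟨h1, h2⟩ := ih n hn
      rw [Function.iterate_succ_apply']
      exact ⟨p.mul_lt hR.hG h1, by rw [hWd, hR.word_mul ha h1, ← hWd, h2, pow_succ', mul_assoc]⟩
  have h0 : W 0 = 1 := word_zero _ _ _ _
  have himg : ∀ n, img p r.gen n < 64 ∧ W (img p r.gen n) = word (W F) (W X) (W Y) (W T) n := by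
    intro n
    obtain ⟨a1, b1⟩ := hit T hT (n / 32) 0 (by norm_num)
    obtain ⟨a2, b2⟩ := hit Y hY (n / 16 % 2) _ a1
    obtain ⟨a3, b3⟩ := hit X hX (n / 8 % 2) _ a2
    obtain ⟨a4, b4⟩ := hit F hF (n % 8) _ a3
    refine ⟨a4, b4.trans ?_⟩
    rw [b3, b2, b1, h0, mul_one]
    simp only [word, mul_assoc]
  have hq' : Rel q (W F) (W X) (W Y) (W T) := by
    have hmul : ∀ {a b : ℕ}, a < 64 → b < 64 → W (p.mul a b) = W a * W b := fun ha hb =>
      hR.word_mul ha hb
    refine ⟨⟨?_, ?_, ?_, ?_, ?_, ?_⟩, qG, qA, qB, qC, ?_, ?_, ?_, ?_⟩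
    · have := (hit F hF 8 0 (by norm_num)).2
      rw [f8, h0, mul_one] at this
      exact this.symm
    · rw [← hmul hX hX, xx, h0]
    · rw [← hmul hY hY, yy, h0]
    · rw [← hmul hX hF, xf, (hit F hF 3 X hX).2]
    · rw [← hmul hY hF, yf, (hit F hF 5 Y hY).2]
    · rw [← hmul hY hX, yx, (hit F hF q.w _ (p.mul_lt hR.hG hY)).2, hmul hX hY, mul_assoc]
    · rw [← hmul hT hF, tf, hmul (himg _).1 hT, (himg _).2]
    · rw [← hmul hT hX, tx, hmul (himg _).1 hT, (himg _).2]
    · rw [← hmul hT hY, ty, hmul (himg _).1 hT, (himg _).2]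
    · rw [← hmul hT hT, tt, (himg _).2]
  set V : ℕ → P := word (W F) (W X) (W Y) (W T) with hVd
  have hVmul : ∀ m < 64, ∀ n < 64, V (q.mul m n) = V m * V n := fun m hm n hn => hq'.word_mul hm hn
  have gen : ∀ (g : ℕ), g ∈ [1, 8, 16, 32] → ∃ n < 64, V n = W g := by
    intro g hg
    obtain ⟨j, hj, rfl⟩ : ∃ j, j < 4 ∧ [1, 8, 16, 32].getD j 0 = g := by
      fin_cases hg
      exacts [⟨0, by norm_num, rfl⟩, ⟨1, by norm_num, rfl⟩, ⟨2, by norm_num, rfl⟩,
        ⟨3, by norm_num, rfl⟩]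
    obtain ⟨hb1, hb2⟩ := hback j hj
    exact ⟨_, hb1, by rw [← hb2, (himg _).2]⟩
  have hV0 : ∃ n < 64, V n = 1 := ⟨0, by norm_num, word_zero _ _ _ _⟩
  have hVm : ∀ a b, (∃ n < 64, V n = a) → (∃ n < 64, V n = b) → ∃ n < 64, V n = a * b := by
    rintro _ _ ⟨m, hm, rfl⟩ ⟨n, hn, rfl⟩
    exact ⟨_, q.mul_lt qG hn, hVmul m hm n hn⟩
  have hVp : ∀ a, (∃ n < 64, V n = a) → ∀ k : ℕ, ∃ n < 64, V n = a ^ k := by
    intro a ha k
    induction k with
    | zero => simpa using hV0
    | succ k ih => rw [pow_succ]; exact hVm _ _ ih ha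
  have Vsurj : ∀ s : P, ∃ n < 64, V n = s := by
    intro s
    obtain ⟨n, -, hns⟩ := hsurj s
    have e : word f x y t n = W 1 ^ (n % 8) * W 8 ^ (n / 8 % 2) * W 16 ^ (n / 16 % 2) *
        W 32 ^ (n / 32) := by
      simp only [hWd, word_one, word_eight, word_sixteen, word_thirtytwo]
      rfl
    rw [← hns, ← hWd] at *
    rw [e]
    exact hVm _ _ (hVm _ _ (hVm _ _ (hVp _ (gen 1 (by simp)) _) (hVp _ (gen 8 (by simp)) _))
      (hVp _ (gen 16 (by simp)) _)) (hVp _ (gen 32 (by simp)) _)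
  refine ⟨r.k, hk, V, ⟨fun m hm n hn => tbl_lt _ _ _,
    fun m hm n hn => by rw [tables_spec hk hm hn, hVmul m hm n hn], ?_, Vsurj⟩⟩
  have hb : Function.Bijective fun n : Fin 64 => V n :=
    (Nat.bijective_iff_surjective_and_card _).2 ⟨fun s => by
      obtain ⟨n, hn, e⟩ := Vsurj s
      exact ⟨⟨n, hn⟩, e⟩, by rw [Nat.card_fin, hcard]⟩
  intro m hm n hn e
  exact congrArg Fin.val (hb.1 (show V (⟨m, hm⟩ : Fin 64) = V (⟨n, hn⟩ : Fin 64) from e))

/-- An element conjugating `f` to `f ^ r` may be replaced by an involution doing the same. -/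
theorem exists_invol {f z : P} {r : ℕ} (hf : orderOf f = 8)
    (hself : ∀ s, s * f = f * s → ∃ k < 8, s = f ^ k) (hz : z * f = f ^ r * z)
    (hr : r * r % 8 = 1)
    (hlift : ∀ u < 8, (r * u) % 8 = u → ∃ i < 8, (i + r * i + u) % 8 = 0) :
    ∃ x, x * x = 1 ∧ x * f = f ^ r * x := by
  have h8 : f ^ 8 = 1 := hf ▸ pow_orderOf_eq_one f
  have hzp : ∀ i : ℕ, z * f ^ i = f ^ (r * i) * z := fun i => by
    rw [pow_mul]; exact (show SemiconjBy z f (f ^ r) from hz).pow_right i
  have hzz : z * z * f = f * (z * z) := by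
    rw [mul_assoc, hz, ← mul_assoc, hzp, mul_assoc, pow_eq_pow_mod _ h8, hr, pow_one]
  obtain ⟨u, hu, hzu⟩ := hself _ hzz
  have hfix : r * u % 8 = u := by
    have e : f ^ (r * u) * z = f ^ u * z := by rw [← hzp, ← hzu, mul_assoc]
    have e' := mul_right_cancel e
    rw [pow_eq_pow_mod (r * u) h8] at e'
    exact pow_injOn_Iio_orderOf (by simp [hf, Nat.mod_lt]) (by simp [hf, hu]) e'
  obtain ⟨i, -, hi⟩ := hlift u hu hfix
  refine ⟨f ^ i * z, ?_, ?_⟩
  · rw [mul_assoc, ← mul_assoc z, hzp, mul_assoc, hzu, ← pow_add, ← pow_add, pow_eq_pow_mod _ h8,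
      show (i + (r * i + u)) % 8 = 0 by rw [← add_assoc]; exact hi, pow_zero]
  · rw [mul_assoc, hz, ← mul_assoc, ← pow_add, add_comm, pow_add, mul_assoc]

/-- The frame inside the group. -/
theorem exists_frame {f : P} (hf : orderOf f = 8)
    (hself : ∀ s, s * f = f * s → ∃ k < 8, s = f ^ k)
    (h3 : ∃ s, s * f = f ^ 3 * s) (h5 : ∃ s, s * f = f ^ 5 * s) :
    ∃ x y w, (w = 0 ∨ w = 4) ∧ Frame w f x y := by
  have h8 : f ^ 8 = 1 := hf ▸ pow_orderOf_eq_one f
  obtain ⟨z, hz⟩ := h3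
  obtain ⟨z', hz'⟩ := h5
  obtain ⟨x, xx, xf⟩ := exists_invol hf hself hz (by norm_num) lift_invol
  obtain ⟨y, yy, yf⟩ := exists_invol hf hself hz' (by norm_num) lift_square
  have hx : ∀ i : ℕ, x * f ^ i = f ^ (3 * i) * x := fun i => by
    rw [pow_mul]; exact (show SemiconjBy x f (f ^ 3) from xf).pow_right i
  have hy : ∀ i : ℕ, y * f ^ i = f ^ (5 * i) * y := fun i => by
    rw [pow_mul]; exact (show SemiconjBy y f (f ^ 5) from yf).pow_right i
  have hc : y * x * y * x * f = f * (y * x * y * x) := by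
    simp only [mul_assoc]
    rw [xf, ← mul_assoc y (f ^ 3), hy, mul_assoc (f ^ _), ← mul_assoc x (f ^ _), hx,
      mul_assoc (f ^ _), ← mul_assoc y (f ^ _), hy, mul_assoc (f ^ _), pow_eq_pow_mod _ h8]
    norm_num
  obtain ⟨w, hw, e⟩ := hself _ hc
  have yx : y * x = f ^ w * x * y := by
    rw [← e]
    simp only [mul_assoc]
    rw [← mul_assoc x x, xx, one_mul, yy, mul_one]
  have hxyy : x = f ^ (5 * w + w) * x := by
    calc x = y * (y * x) := by rw [← mul_assoc, yy, one_mul]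
      _ = f ^ (5 * w) * (y * x) * y := by conv_lhs => rw [yx]
                                          simp only [← mul_assoc]
                                          rw [hy]
      _ = f ^ (5 * w + w) * x * (y * y) := by rw [yx, pow_add]; simp only [mul_assoc]
      _ = _ := by rw [yy, mul_one]
  have h1 : (5 * w + w) % 8 = 0 := by
    have := pow_mul_eq_one_of hxyy
    rw [pow_eq_pow_mod _ h8, ← pow_zero f] at this
    exact pow_injOn_Iio_orderOf (by simp [hf, Nat.mod_lt]) (by simp [hf]) this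
  have h2 : (w + 3 * w) % 8 = 0 := by
    have e2 : y * (x * x) = f ^ (w + 3 * w) * (x * x) * y := by
      rw [← mul_assoc, yx, mul_assoc _ y, yx, pow_add]
      simp only [← mul_assoc]
      rw [mul_assoc _ x (f ^ w), hx]
      simp only [← mul_assoc]
    rw [xx, mul_one, mul_one] at e2
    have := pow_mul_eq_one_of e2
    rw [pow_eq_pow_mod _ h8, ← pow_zero f] at this
    exact pow_injOn_Iio_orderOf (by simp [hf, Nat.mod_lt]) (by simp [hf]) this
  exact ⟨x, y, w, twist w hw h1 h2, h8, xx, yy, xf, yf, yx⟩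

theorem frame_injOn {w : ℕ} {f x y : P} (h : Frame w f x y) (hf : orderOf f = 8) (t : P) {m n : ℕ}
    (hm : m < 32) (hn : n < 32) (e : word f x y t m = word f x y t n) : m = n := by
  simp only [word, show m / 32 = 0 by omega, show n / 32 = 0 by omega, pow_zero, mul_one] at e
  have act : ∀ i a b : ℕ, SemiconjBy (f ^ i * x ^ a * y ^ b) f (f ^ (3 ^ a * 5 ^ b)) := by
    intro i a b
    have hy : SemiconjBy (y ^ b) f (f ^ 5 ^ b) := by
      induction b with
      | zero => simp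
      | succ b ih =>
        rw [pow_succ', pow_succ, pow_mul]
        refine SemiconjBy.mul_left ?_ ih
        have := (show SemiconjBy y f (f ^ 5) from h.yf).pow_right (5 ^ b)
        rwa [← pow_mul, mul_comm 5, pow_mul] at this
    have hx : SemiconjBy (x ^ a) (f ^ 5 ^ b) (f ^ (3 ^ a * 5 ^ b)) := by
      induction a with
      | zero => simp
      | succ a ih =>
        rw [pow_succ']
        refine SemiconjBy.mul_left ?_ ih
        have := (show SemiconjBy x f (f ^ 3) from h.xf).pow_right (3 ^ a * 5 ^ b)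
        rwa [← pow_mul, ← mul_assoc, ← pow_succ'] at this
    exact ((Commute.pow_pow_self f i _).semiconjBy.mul_left hx).mul_left hy
  have h1 := (act (m % 8) (m / 8 % 2) (m / 16 % 2)).eq
  have h2 := (act (n % 8) (n / 8 % 2) (n / 16 % 2)).eq
  rw [e, h2, pow_eq_pow_mod _ h.f8, pow_eq_pow_mod (3 ^ (m / 8 % 2) * _) h.f8] at h1
  obtain ⟨ea, eb⟩ := pow_sep _ (by omega) _ (by omega) _ (by omega) _ (by omega)
    (pow_injOn_Iio_orderOf (by simp [hf, Nat.mod_lt]) (by simp [hf, Nat.mod_lt])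
      (mul_right_cancel h1))
  rw [ea, eb, mul_left_inj, mul_left_inj] at e
  have := pow_injOn_Iio_orderOf (by simp [hf, Nat.mod_lt]) (by simp [hf, Nat.mod_lt]) e
  omega

/-- The classification. -/
theorem exists_coord [Finite P] (hcard : Nat.card P = 64) {f : P} (hf : orderOf f = 8)
    (hself : ∀ s, s * f = f * s → ∃ k < 8, s = f ^ k)
    (h3 : ∃ s, s * f = f ^ 3 * s) (h5 : ∃ s, s * f = f ^ 5 * s) :
    ∃ k < 7, ∃ e : ℕ → P, Coord (tbl (table k)) e := by
  obtain ⟨x, y, w, hw, hF⟩ := exists_frame hf hself h3 h5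
  set W : ℕ → P := word f x y 1 with hW
  have hWmul : ∀ m < 32, ∀ n : ℕ, W (hmul w m n) = W m * W n := fun m hm n => hF.word_hmul 1 hm n
  let H : Subgroup P :=
    { carrier := {s | ∃ n < 32, W n = s}
      one_mem' := ⟨0, by norm_num, word_zero _ _ _ _⟩
      mul_mem' := by
        rintro _ _ ⟨m, hm, rfl⟩ ⟨n, hn, rfl⟩
        exact ⟨_, hmul_lt (Or.inl rfl) hn, hWmul m hm n⟩
      inv_mem' := by
        rintro _ ⟨m, hm, rfl⟩
        refine ⟨hpow w m (orderOf (W m) - 1), hpow_lt _ _ _, ?_⟩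
        rw [hW, hF.word_hpow 1 hm]
        refine eq_inv_of_mul_eq_one_left ?_
        rw [← pow_succ, Nat.sub_add_cancel (orderOf_pos _), pow_orderOf_eq_one] }
  have hH : Nat.card H = 32 := by
    let φ : Fin 32 → H := fun n => ⟨W n, n, n.2, rfl⟩
    have hb : Function.Bijective φ := by
      refine ⟨fun a b e => Fin.ext (frame_injOn hF hf 1 a.2 b.2 (congrArg Subtype.val e)), ?_⟩
      rintro ⟨_, n, hn, rfl⟩
      exact ⟨⟨n, hn⟩, rfl⟩
    rw [← Nat.card_eq_of_bijective φ hb, Nat.card_fin]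
  have hidx : H.index = 2 := by
    have := H.card_mul_index
    rw [hH, hcard] at this
    omega
  haveI := Subgroup.normal_of_index_eq_two hidx
  obtain ⟨t, ht⟩ : ∃ t, t ∉ H := by
    by_contra hall
    push Not at hall
    rw [show H = ⊤ from eq_top_iff.2 fun s _ => hall s, Subgroup.index_top] at hidx
    omega
  have hfH : f ∈ H := ⟨1, by norm_num, word_one _ _ _ _⟩
  have hxH : x ∈ H := ⟨8, by norm_num, word_eight _ _ _ _⟩
  have hyH : y ∈ H := ⟨16, by norm_num, word_sixteen _ _ _ _⟩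
  have conjH : ∀ s ∈ H, t * s * t⁻¹ ∈ H := fun s hs => Subgroup.Normal.conj_mem inferInstance s hs t
  obtain ⟨A, hA, eA⟩ := conjH f hfH
  obtain ⟨B, hB, eB⟩ := conjH x hxH
  obtain ⟨C, hC, eC⟩ := conjH y hyH
  obtain ⟨G, hG, eG⟩ := Subgroup.mul_self_mem_of_index_two hidx t
  have hwt : ∀ n < 32, word f x y t n = W n := fun n hn => by
    simp only [hW, word, show n / 32 = 0 by omega, pow_zero]
  set p : Par := ⟨w, A, B, C, G⟩
  have hR : Rel p f x y t :=
    { toFrame := hF, hG := hG, hA := hA, hB := hB, hC := hC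
      tf := by rw [hwt A hA, eA, inv_mul_cancel_right]
      tx := by rw [hwt B hB, eB, inv_mul_cancel_right]
      ty := by rw [hwt C hC, eC, inv_mul_cancel_right]
      tt := by rw [hwt G hG, eG] }
  have inj64 : ∀ m < 64, ∀ n < 64, word f x y t m = word f x y t n → m = n := by
    have small : ∀ n < 32, word f x y t n ∈ H := fun n hn => ⟨n, hn, (hwt n hn).symm⟩
    have big : ∀ n, 32 ≤ n → n < 64 → word f x y t n ∉ H := fun n h1 h2 hh => by
      obtain ⟨k, hk, rfl⟩ : ∃ k, k < 32 ∧ n = k + 32 := ⟨n - 32, by omega, by omega⟩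
      rw [word_add hk, H.mul_mem_cancel_left (small k hk)] at hh
      exact ht hh
    intro m hm n hn e
    by_cases hm' : m < 32 <;> by_cases hn' : n < 32
    · rw [hwt m hm', hwt n hn'] at e
      exact frame_injOn hF hf 1 hm' hn' e
    · exact absurd (e ▸ small m hm') (big n (by omega) hn)
    · exact absurd (e.symm ▸ small n hn') (big m (by omega) hm)
    · obtain ⟨a, ha, rfl⟩ : ∃ a, a < 32 ∧ m = a + 32 := ⟨m - 32, by omega, by omega⟩
      obtain ⟨b, hb, rfl⟩ : ∃ b, b < 32 ∧ n = b + 32 := ⟨n - 32, by omega, by omega⟩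
      rw [word_add ha, word_add hb, mul_left_inj, hwt a ha, hwt b hb] at e
      rw [frame_injOn hF hf 1 ha hb e]
  -- the parameters are valid
  have inj32 : ∀ {m n : ℕ}, m < 32 → n < 32 → W m = W n → m = n :=
    fun hm hn e => frame_injOn hF hf 1 hm hn e
  have hW0 : W 0 = 1 := word_zero _ _ _ _
  have hpw : ∀ k, W (hpow w A k) = W A ^ k := fun k => hF.word_hpow 1 hA k
  have cA : okA w A = true := by
    simp only [okA, Bool.and_eq_true, decide_eq_true_eq, beq_iff_eq]
    refine ⟨?_, inj32 (hpow_lt _ _ _) (by norm_num) ?_⟩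
    · by_contra hlt
      push Not at hlt
      have ef : t * f = f ^ A * t := by
        rw [← inv_mul_cancel_right (t * f) t, ← eA, hW]
        simp [word, show A / 8 = 0 by omega, show A / 16 = 0 by omega, show A / 32 = 0 by omega,
          Nat.mod_eq_of_lt hlt]
      have hAo : A % 2 = 1 := by
        have h8 : orderOf (W A) = 8 := by
          rw [eA, ← MulAut.conj_apply, MulEquiv.orderOf_eq, hf]
        have : W A = f ^ A := by
          simp [hW, word, show A / 8 = 0 by omega, show A / 16 = 0 by omega,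
            show A / 32 = 0 by omega, Nat.mod_eq_of_lt hlt]
        rw [this] at h8
        by_contra h
        have h4 : (f ^ A) ^ 4 = 1 := by
          rw [← pow_mul, pow_eq_pow_mod _ hF.f8, show A * 4 % 8 = 0 by omega, pow_zero]
        have := orderOf_dvd_of_pow_eq_one h4
        rw [h8] at this
        omega
      obtain ⟨a, ha, b, hb, hab⟩ := odd_cases A hlt hAo
      set v := x ^ a * y ^ b with hv
      have hvH : v ∈ H := mul_mem (pow_mem hxH a) (pow_mem hyH b)
      have hvf : v * f = f ^ A * v := by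
        have hn : a * 8 + b * 16 < 32 := by omega
        have e := hF.word_hmul 1 hn (1 : ℕ)
        have ew : word f x y 1 (a * 8 + b * 16) = v := by
          simp [word, hv, show (a * 8 + b * 16) % 8 = 0 by omega,
            show (a * 8 + b * 16) / 8 % 2 = a by omega, show (a * 8 + b * 16) / 16 % 2 = b by omega]
        rcases (show a = 0 ∨ a = 1 by omega) with rfl | rfl <;>
          rcases (show b = 0 ∨ b = 1 by omega) with rfl | rfl <;> norm_num at hab <;> subst hab
        · simp [hv]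
        · simpa [hv] using hF.yf
        · simpa [hv] using hF.xf
        · rw [hv, pow_one, pow_one, mul_assoc, hF.yf, ← mul_assoc,
            ((show SemiconjBy x f (f ^ 3) from hF.xf).pow_right 5).eq, ← pow_mul,
            pow_eq_pow_mod _ hF.f8, mul_assoc]
      have hc : v⁻¹ * t * f = f * (v⁻¹ * t) := by
        rw [mul_assoc, ef, ← mul_assoc, ← mul_assoc]
        congr 1
        rw [inv_mul_eq_iff_eq_mul, ← mul_assoc, hvf, mul_inv_cancel_right]
      obtain ⟨k, -, hk⟩ := hself _ hc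
      refine ht ?_
      rw [← H.mul_mem_cancel_left (H.inv_mem hvH), hk]
      exact pow_mem hfH k
    · rw [hpw, eA, conj_pow, hF.f8, mul_one, mul_inv_cancel, hW0]
  have cB : okB w A B = true := by
    simp only [okB, Bool.and_eq_true, beq_iff_eq]
    refine ⟨inj32 (hmul_lt (Or.inl rfl) hB) (by norm_num) ?_,
      inj32 (hmul_lt (Or.inl rfl) hA) (hmul_lt (Or.inl rfl) hB) ?_⟩
    · rw [hWmul B hB, eB, hW0, conj_mul, hF.xx, mul_one, mul_inv_cancel]
    · rw [hWmul B hB, hWmul _ (hpow_lt _ _ _), hpw, eA, eB, conj_pow, conj_mul, conj_mul, hF.xf]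
  have cC : okC w A B C = true := by
    simp only [okC, Bool.and_eq_true, beq_iff_eq]
    refine ⟨inj32 (hmul_lt (Or.inl rfl) hC) (by norm_num) ?_,
      inj32 (hmul_lt (Or.inl rfl) hA) (hmul_lt (Or.inl rfl) hC) ?_,
      inj32 (hmul_lt (Or.inl rfl) hB) (hmul_lt (Or.inl rfl) (hmul_lt (Or.inl rfl) hC)) ?_⟩
    · rw [hWmul C hC, eC, hW0, conj_mul, hF.yy, mul_one, mul_inv_cancel]
    · rw [hWmul C hC, hWmul _ (hpow_lt _ _ _), hpw, eA, eC, conj_pow, conj_mul, conj_mul, hF.yf]
    · rw [hWmul C hC, hWmul _ (hpow_lt _ _ _), hWmul B hB, hpw, eA, eB, eC, conj_pow, conj_mul,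
        conj_mul, conj_mul, hF.yx, mul_assoc (f ^ w)]
  have cG : okG p = true := by
    simp only [okG, List.all_eq_true, beq_iff_eq]
    intro n hn
    have hn64 : n < 64 := by
      fin_cases hn <;> norm_num
    refine inj64 _ (p.stepT_lt hG) _ (hmul_lt (Or.inr rfl) hn64) ?_
    rw [hR.word_stepT (p.stepT_lt hG), hR.word_stepT hn64, hF.word_hmul t hG, ← mul_assoc, hR.tt]
  have hsurj : ∀ s : P, ∃ n < 64, word f x y t n = s := by
    have hb : Function.Bijective fun n : Fin 64 => word f x y t n :=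
      (Nat.bijective_iff_injective_and_card _).2
        ⟨fun a b e => Fin.ext (inj64 a a.2 b b.2 e), by rw [Nat.card_fin, hcard]⟩
    intro s
    obtain ⟨n, hn⟩ := hb.2 s
    exact ⟨n, n.2, hn⟩
  -- the row
  obtain ⟨r, hr⟩ := cover_spec hw hA hB hC hG cA cB cC cG
  exact coord_of_row hR hcard inj64 hsurj hr

end CfsgLib.Spor.SixtyFour
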