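import Cfsg.Agent.Lib.Spor.SixtyFour.Automizer
import Cfsg.Agent.Lib.Spor.SixtyFour.Coord
import Cfsg.Agent.Lib.Fusion.SmallTwo.Criterion

/-!
# A Sylow two-subgroup excluded by transfer
-/

set_option autoImplicit false
set_option linter.style.haveILetI false

open Cfsg (groupFusionSystem autInducedBy)
open Cfsg.FusionSystem (normalizerIn centralizerIn)

namespace CfsgLib.Spor.SixtyFour

open CfsgLib.Fusion

/-! ### The checks -/

/-- Why a subgroup is not essential. -/
inductive Cert where
  /-- An outside element centralizes it. -/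
  | nc (x : ℕ)
  /-- An outside element stabilizes an invariant chain, given with the colours of its members. -/
  | chain (x : ℕ) (ch : List (ℕ × List ℕ))
  /-- It is elementary abelian of order eight with this normalizer. -/
  | eight (N : ℕ)

/-- The data of a type. -/
structure Data where
  T : ℕ
  iv : ℕ
  M : ℕ
  Mcols : List ℕ
  subs : List ℕ
  certs : List (ℕ × Cert)

namespace Data

variable (D : Data)

def mu (a b : ℕ) : ℕ := tbl D.T a b

def inv (a : ℕ) : ℕ := (D.iv >>> (6 * a)) % 64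

def conj (a n : ℕ) : ℕ := D.mu (D.mu a n) (D.inv a)

def comm (a n : ℕ) : ℕ := D.mu (D.conj a n) (D.inv n)

def full : ℕ := 2 ^ 64 - 1

/-- The members of a mask. -/
def elems (L : ℕ) : List ℕ := (List.range 64).filter fun n => L.testBit n

def sub (L L' : ℕ) : Bool := (elems L).all fun n => L'.testBit n

def closed (L : ℕ) : Bool :=
  L.testBit 0 && (elems L).all fun a => (elems L).all fun b => L.testBit (D.mu a b)

def sqrts (L a : ℕ) : ℕ := (elems L).countP fun b => D.mu b b == a

def cents (L a : ℕ) : ℕ := (elems L).countP fun b => D.mu a b == D.mu b a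

def flag (a : ℕ) : ℕ := if a == 0 then 1 else 0

def col (L a : ℕ) : ℕ :=
  D.sqrts L a + 128 * D.cents L a + 128 ^ 2 * D.sqrts L (D.mu a a) +
    128 ^ 3 * D.cents L (D.mu a a) + 128 ^ 4 * flag a + 128 ^ 5 * flag (D.mu a a) +
    128 ^ 6 * flag (D.mu (D.mu a a) (D.mu a a))

def ext (L a : ℕ) : ℕ :=
  (elems L).foldl (fun acc n => acc ||| (1 <<< D.mu n a)) L

def invCheck : Bool :=
  (D.mu 0 0 == 0) && (List.range 64).all fun a => D.mu a (D.inv a) == 0

def mCheck : Bool :=
  D.closed D.M && ((List.range 64).any (fun n => !D.M.testBit n) &&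
  ((List.range 64).all (fun a => D.M.testBit a == D.Mcols.contains (D.col full a)) &&
  ((List.range 64).all fun a => (List.range 64).all fun b =>
    D.M.testBit (D.mu (D.inv a) (D.conj b a)) &&
      (D.M.testBit a || (D.M.testBit b || D.M.testBit (D.mu (D.inv a) b))))))

def subOk (L : ℕ) : Bool :=
  (List.range 64).all fun a =>
    L.testBit a || (!L.testBit (D.mu a a) || (!((elems L).all fun n => L.testBit (D.conj a n)) ||
      D.subs.contains (D.ext L a)))

def subsCheck : Bool :=
  D.subs.contains 1 && D.subs.all fun L => D.subOk L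

/-- `subsCheck` from its pieces. -/
theorem subsCheck_of_parts (n : ℕ) (h1 : D.subs.contains 1 = true)
    (h2 : ((D.subs.take n).all fun L => D.subOk L) = true)
    (h3 : (((D.subs.drop n).take n).all fun L => D.subOk L) = true)
    (h4 : (((D.subs.drop n).drop n).all fun L => D.subOk L) = true) : D.subsCheck = true := by
  rw [subsCheck, Bool.and_eq_true, ← List.take_append_drop n D.subs, List.all_append,
    ← List.take_append_drop n (D.subs.drop n), List.all_append, h2, h3, h4,
    List.take_append_drop n (D.subs.drop n), List.take_append_drop n D.subs]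
  exact ⟨h1, rfl⟩

def members (ch : List (ℕ × List ℕ)) (i : ℕ) : ℕ := (ch.getD i (1, [])).1

def okNc (L x : ℕ) : Bool :=
  decide (x < 64) && (!L.testBit x && (elems L).all fun n => D.mu x n == D.mu n x)

def okChain (L x : ℕ) (ch : List (ℕ × List ℕ)) : Bool :=
  decide (x < 64) && (!L.testBit x && ((elems L).all (fun n => L.testBit (D.conj x n)) &&
  (members ch 0 == L && (members ch ch.length == 1 &&
  ((ch.all fun m => sub m.1 L && (D.closed m.1 &&
    (elems L).all fun a => m.1.testBit a == m.2.contains (D.col L a))) &&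
  ((List.range ch.length).all fun i =>
    sub (members ch (i + 1)) (members ch i) &&
      (elems (members ch i)).all fun n => (members ch (i + 1)).testBit (D.comm x n)))))))

def fixMask (L x : ℕ) : ℕ :=
  (elems L).foldl (fun acc n => if D.mu x n == D.mu n x then acc ||| (1 <<< n) else acc) 1

def moveMask (L x : ℕ) : ℕ := (elems L).foldl (fun acc n => acc ||| (1 <<< D.comm x n)) 1

/-- Any two elements of `A` outside `B` differ by an element of `B`. -/
def two (A B : ℕ) : Bool :=
  (elems A).all fun a => B.testBit a || (elems A).all fun b =>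
    B.testBit b || B.testBit (D.mu a (D.inv b))

def okPair (L x : ℕ) : Bool :=
  let C := D.fixMask L x
  let E := D.moveMask L x
  D.closed C && (D.closed E && (sub E C && (sub C L && (D.two L C && (D.two C E && D.two E 1)))))

def okEight (L N : ℕ) : Bool :=
  ((elems L).length == 8) && (((elems L).all fun a =>
    (D.mu a a == 0) && (elems L).all fun b => D.mu a b == D.mu b a) &&
  (((List.range 64).all fun x => N.testBit x == (elems L).all fun n => L.testBit (D.conj x n)) &&
  (((elems N).length == 32) && (elems N).all fun x =>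
    L.testBit x || (!L.testBit (D.mu x x) || D.okPair L x))))

def ok (L : ℕ) : Cert → Bool
  | .nc x => D.okNc L x
  | .chain x ch => D.okChain L x ch
  | .eight N => D.okEight L N

def certCheck : Bool :=
  D.subs.all fun L => (L == full) || (sub L D.M || D.certs.any fun c => (c.1 == L) && D.ok L c.2)

def check : Bool := D.invCheck && (D.mCheck && (D.subsCheck && D.certCheck))

theorem mem_elems {L n : ℕ} : n ∈ elems L ↔ n < 64 ∧ L.testBit n = true := by
  simp [elems]

theorem testBit_full {n : ℕ} (h : n < 64) : full.testBit n = true := by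
  rw [full, Nat.testBit_two_pow_sub_one]
  simpa using h

theorem testBit_fold {g : ℕ → ℕ} {c : ℕ → Bool} (l : List ℕ) (acc m : ℕ) :
    (l.foldl (fun acc n => if c n then acc ||| (1 <<< g n) else acc) acc).testBit m = true ↔
      acc.testBit m = true ∨ ∃ n ∈ l, c n = true ∧ g n = m := by
  induction l generalizing acc with
  | nil => simp
  | cons a l ih =>
    rw [List.foldl_cons, ih]
    by_cases h : c a = true
    · simp [h, Nat.testBit_or, Nat.one_shiftLeft, Nat.testBit_two_pow, or_assoc]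
    · simp [h]

theorem testBit_fold' {g : ℕ → ℕ} (l : List ℕ) (acc m : ℕ) :
    (l.foldl (fun acc n => acc ||| (1 <<< g n)) acc).testBit m = true ↔
      acc.testBit m = true ∨ ∃ n ∈ l, g n = m := by
  have := testBit_fold (g := g) (c := fun _ => true) l acc m
  simpa using this

theorem testBit_one {m : ℕ} : (1 : ℕ).testBit m = true ↔ m = 0 := by
  rw [show (1 : ℕ) = 2 ^ 0 from rfl, Nat.testBit_two_pow]
  simp [eq_comm]

end Data

/-! ### Soundness -/

universe u

variable {G : Type u} [Group G] [Finite G] {S : Sylow 2 G} {D : Data} {e : ℕ → ↥(S : Subgroup G)}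

/-- `L` is the mask of `R`. -/
def IsMask (e : ℕ → ↥(S : Subgroup G)) (L : ℕ) (R : Subgroup G) : Prop :=
  ∀ n < 64, L.testBit n = true ↔ ((e n : ↥(S : Subgroup G)) : G) ∈ R

namespace Coord

variable (h : Coord D.mu e)
include h

/-- The element of a code, in `G`. -/
theorem coe_mu {m n : ℕ} (hm : m < 64) (hn : n < 64) :
    ((e (D.mu m n) : ↥(S : Subgroup G)) : G) = (e m : G) * (e n : G) := by
  rw [h.mul m hm n hn, Subgroup.coe_mul]

theorem inv_lt (a : ℕ) : D.inv a < 64 := by
  have _ := h.one_zero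
  exact Nat.mod_lt _ (by norm_num)

theorem conj_lt {a n : ℕ} (ha : a < 64) (hn : n < 64) : D.conj a n < 64 :=
  h.lt _ (h.lt a ha n hn) _ (h.inv_lt a)

theorem comm_lt {a n : ℕ} (ha : a < 64) (hn : n < 64) : D.comm a n < 64 :=
  h.lt _ (h.conj_lt ha hn) _ (h.inv_lt n)

theorem coe_inv (hi : D.invCheck = true) {a : ℕ} (ha : a < 64) :
    ((e (D.inv a) : ↥(S : Subgroup G)) : G) = (e a : G)⁻¹ := by
  simp only [Data.invCheck, Bool.and_eq_true, List.all_eq_true, List.mem_range, beq_iff_eq] at hi
  refine eq_inv_of_mul_eq_one_right ?_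
  rw [← h.coe_mu ha (h.inv_lt a), hi.2 a ha, h.one_zero hi.1, Subgroup.coe_one]

theorem coe_conj (hi : D.invCheck = true) {a n : ℕ} (ha : a < 64) (hn : n < 64) :
    ((e (D.conj a n) : ↥(S : Subgroup G)) : G) = (e a : G) * (e n : G) * (e a : G)⁻¹ := by
  rw [Data.conj, h.coe_mu (h.lt a ha n hn) (h.inv_lt a),
    h.coe_mu ha hn, h.coe_inv hi ha]

theorem coe_comm (hi : D.invCheck = true) {a n : ℕ} (ha : a < 64) (hn : n < 64) :
    ((e (D.comm a n) : ↥(S : Subgroup G)) : G) =
      (e a : G) * (e n : G) * (e a : G)⁻¹ * (e n : G)⁻¹ := by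
  rw [Data.comm, h.coe_mu (h.conj_lt ha hn) (h.inv_lt n), h.coe_conj hi ha hn, h.coe_inv hi hn]

theorem exists_code {z : G} (hz : z ∈ (S : Subgroup G)) : ∃ n < 64, (e n : G) = z := by
  obtain ⟨n, hn, he⟩ := h.surj ⟨z, hz⟩
  exact ⟨n, hn, congrArg Subtype.val he⟩

theorem coe_inj {m n : ℕ} (hm : m < 64) (hn : n < 64) (he : (e m : G) = (e n : G)) : m = n :=
  h.inj m hm n hn (Subtype.ext he)

theorem exists_mem {R : Subgroup G} {L : ℕ} (hL : IsMask e L R) (hRS : R ≤ (S : Subgroup G)) {z : G}
    (hz : z ∈ R) : ∃ n ∈ Data.elems L, (e n : G) = z := by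
  obtain ⟨n, hn, rfl⟩ := h.exists_code (hRS hz)
  exact ⟨n, Data.mem_elems.2 ⟨hn, (hL n hn).2 hz⟩, rfl⟩

theorem card_eq {R : Subgroup G} {L : ℕ} (hL : IsMask e L R) (hRS : R ≤ (S : Subgroup G)) :
    Nat.card R = (Data.elems L).length := by
  have hnd : (Data.elems L).Nodup := List.nodup_range.filter _
  let φ : Fin (Data.elems L).length → R := fun i => ⟨e ((Data.elems L).get i), by
    obtain ⟨h1, h2⟩ := Data.mem_elems.1 ((Data.elems L).get_mem i)
    exact (hL _ h1).1 h2⟩
  have hb : Function.Bijective φ := by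
    refine ⟨fun i j he => ?_, fun z => ?_⟩
    · refine hnd.injective_get (h.coe_inj (Data.mem_elems.1 ((Data.elems L).get_mem i)).1
        (Data.mem_elems.1 ((Data.elems L).get_mem j)).1 (congrArg (fun r : R => (r : G)) he))
    · obtain ⟨n, hn, he⟩ := h.exists_mem hL hRS z.2
      obtain ⟨i, hi⟩ := List.get_of_mem hn
      exact ⟨i, Subtype.ext (by show (e ((Data.elems L).get i) : G) = z; rw [hi, he])⟩
  rw [← Nat.card_eq_of_bijective φ hb, Nat.card_fin]

/-- The subgroup of a closed mask. -/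
theorem exists_subgroup (hi : D.invCheck = true) {L : ℕ} (hL : D.closed L = true) :
    ∃ R : Subgroup G, R ≤ (S : Subgroup G) ∧ IsMask e L R := by
  simp only [Data.closed, Bool.and_eq_true, List.all_eq_true] at hL
  obtain ⟨h0, hmul⟩ := hL
  simp only [Data.invCheck, Bool.and_eq_true, beq_iff_eq] at hi
  let T : Set G := {z | ∃ n ∈ Data.elems L, (e n : G) = z}
  have h1 : (1 : G) ∈ T :=
    ⟨0, Data.mem_elems.2 ⟨by norm_num, h0⟩, by rw [h.one_zero hi.1, Subgroup.coe_one]⟩
  have hm : ∀ a ∈ T, ∀ b ∈ T, a * b ∈ T := by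
    rintro _ ⟨a, ha, rfl⟩ _ ⟨b, hb, rfl⟩
    have ha' := (Data.mem_elems.1 ha).1
    have hb' := (Data.mem_elems.1 hb).1
    exact ⟨_, Data.mem_elems.2 ⟨h.lt a ha' b hb', hmul a ha b hb⟩, h.coe_mu ha' hb'⟩
  have hp : ∀ a ∈ T, ∀ k : ℕ, a ^ k ∈ T := by
    intro a ha k
    induction k with
    | zero => simpa using h1
    | succ k ih => rw [pow_succ]; exact hm _ ih _ ha
  refine ⟨{ carrier := T, one_mem' := h1, mul_mem' := fun {a b} ha hb => hm a ha b hb,
            inv_mem' := fun {a} ha => ?_ }, ?_, fun n hn => ?_⟩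
  · have ea : a⁻¹ = a ^ (orderOf a - 1) := by
      refine (eq_inv_of_mul_eq_one_left ?_).symm
      rw [← pow_succ, Nat.sub_add_cancel (orderOf_pos a), pow_orderOf_eq_one]
    show a⁻¹ ∈ T
    rw [ea]
    exact hp a ha _
  · rintro _ ⟨n, -, rfl⟩
    exact (e n).2
  · constructor
    · intro hb
      exact ⟨n, Data.mem_elems.2 ⟨hn, hb⟩, rfl⟩
    · rintro ⟨m, hm', he⟩
      obtain ⟨hm1, hm2⟩ := Data.mem_elems.1 hm'
      rwa [← h.coe_inj hm1 hn he]

/-- Every subgroup is listed. -/
theorem exists_mask (hi : D.invCheck = true) (hs : D.subsCheck = true) :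
    ∀ R : Subgroup G, R ≤ (S : Subgroup G) → ∃ L ∈ D.subs, IsMask e L R := by
  haveI : Fact (Nat.Prime 2) := ⟨Nat.prime_two⟩
  simp only [Data.subsCheck, Data.subOk, Bool.and_eq_true, List.all_eq_true, List.mem_range, Bool.or_eq_true,
    Bool.not_eq_true', List.contains_iff_mem] at hs
  obtain ⟨hbot, hext⟩ := hs
  intro R
  induction hk : Nat.card R using Nat.strong_induction_on generalizing R with
  | _ k ih =>
  intro hRS
  obtain ⟨j, hj⟩ := (S.2.to_le hRS).exists_card_eq
  rcases Nat.eq_zero_or_pos j with rfl | hj0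
  · refine ⟨1, hbot, fun n hn => ?_⟩
    rw [pow_zero] at hj
    rw [Subgroup.eq_bot_of_card_eq R hj, Subgroup.mem_bot, Data.testBit_one]
    have h00 : (e 0 : G) = 1 := by
      simp only [Data.invCheck, Bool.and_eq_true, beq_iff_eq] at hi
      rw [h.one_zero hi.1, Subgroup.coe_one]
    constructor
    · rintro rfl; exact h00
    · intro he; exact h.coe_inj hn (by norm_num) (he.trans h00.symm)
  · obtain ⟨K, hK⟩ := Sylow.exists_subgroup_card_pow_prime (G := R) 2 (n := j - 1)
      (by rw [hj]; exact pow_dvd_pow 2 (Nat.sub_le _ _))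
    have hKi : K.index = 2 := by
      have := K.card_mul_index
      rw [hK, hj, show (2 : ℕ) ^ j = 2 ^ (j - 1) * 2 by
        rw [← pow_succ, Nat.sub_add_cancel hj0]] at this
      exact Nat.eq_of_mul_eq_mul_left (pow_pos (by norm_num) _) this
    haveI := Subgroup.normal_of_index_eq_two hKi
    set R' := K.map R.subtype with hR'
    have hR'R : R' ≤ R := Subgroup.map_subtype_le K
    have hR'card : Nat.card R' = 2 ^ (j - 1) := by
      rw [hR', Subgroup.card_subtype, hK]
    obtain ⟨L, hLs, hL⟩ := ih _ (by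
      rw [hR'card, ← hk, hj]
      exact Nat.pow_lt_pow_right (by norm_num) (by omega)) R' rfl (hR'R.trans hRS)
    obtain ⟨a', ha'⟩ : ∃ a : R, a ∉ K := by
      by_contra hall
      push Not at hall
      rw [show K = ⊤ from eq_top_iff.2 fun z _ => hall z, Subgroup.index_top] at hKi
      omega
    obtain ⟨a, ha, hea⟩ := h.exists_code (hRS a'.2)
    have hmem : ∀ z : R, (z : G) ∈ R' ↔ z ∈ K := fun z =>
      Subgroup.mem_map_iff_mem R.subtype_injective
    have e1 : L.testBit a = false := by
      rw [Bool.eq_false_iff]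
      intro hb
      have := (hL a ha).1 hb
      rw [hea, hmem] at this
      exact ha' this
    have e2 : L.testBit (D.mu a a) = true := by
      rw [hL _ (h.lt a ha a ha), h.coe_mu ha ha, hea, ← Subgroup.coe_mul, hmem]
      exact Subgroup.mul_self_mem_of_index_two hKi a'
    have e3 : (Data.elems L).all (fun n => L.testBit (D.conj a n)) = true := by
      simp only [List.all_eq_true]
      intro n hn
      obtain ⟨hn1, hn2⟩ := Data.mem_elems.1 hn
      obtain ⟨z, hz, hze⟩ := (hL n hn1).1 hn2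
      rw [hL _ (h.conj_lt ha hn1), h.coe_conj hi ha hn1, hea,
        ← hze, show (a' : G) * R.subtype z * (a' : G)⁻¹ = ((a' * z * a'⁻¹ : R) : G) from rfl, hmem]
      exact Subgroup.Normal.conj_mem inferInstance z hz a'
    have hmem' := hext L hLs a ha
    rw [e1, e2, e3] at hmem'
    simp only [Bool.false_eq_true, Bool.true_eq_false, false_or] at hmem'
    refine ⟨_, hmem', fun m hm => ?_⟩
    rw [Data.ext, Data.testBit_fold']
    constructor
    · rintro (hb | ⟨n, hn, rfl⟩)
      · exact hR'R ((hL m hm).1 hb)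
      · obtain ⟨hn1, hn2⟩ := Data.mem_elems.1 hn
        rw [h.coe_mu hn1 ha, hea]
        exact mul_mem (hR'R ((hL n hn1).1 hn2)) a'.2
    · intro hmR
      by_cases hK' : (⟨(e m : G), hmR⟩ : R) ∈ K
      · exact Or.inl ((hL m hm).2 ((hmem ⟨_, hmR⟩).2 hK'))
      · right
        have hz : (⟨(e m : G), hmR⟩ : R) * a'⁻¹ ∈ K := by
          rw [Subgroup.mul_mem_iff_of_index_two hKi, inv_mem_iff]
          exact iff_of_false hK' ha'
        obtain ⟨n, hn, hne⟩ := h.exists_mem hL (hR'R.trans hRS) ((hmem _).2 hz)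
        obtain ⟨hn1, -⟩ := Data.mem_elems.1 hn
        refine ⟨n, hn, h.coe_inj (h.lt n hn1 a ha) hm ?_⟩
        rw [h.coe_mu hn1 ha, hne, hea, Subgroup.coe_mul, Subgroup.coe_inv, inv_mul_cancel_right]

/-- Colours are invariant. -/
theorem col_autFun (hi : D.invCheck = true) {R : Subgroup G} {L : ℕ} (hL : IsMask e L R)
    (hRS : R ≤ (S : Subgroup G)) (α : MulAut R) {a b : ℕ} (ha : a ∈ Data.elems L)
    (hb : b ∈ Data.elems L) (hab : (e b : G) = autFun α (e a : G)) : D.col L b = D.col L a := by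
  have hR : ∀ {n : ℕ}, n ∈ Data.elems L → (e n : G) ∈ R := fun hn =>
    (hL _ (Data.mem_elems.1 hn).1).1 (Data.mem_elems.1 hn).2
  have hlt : ∀ {n : ℕ}, n ∈ Data.elems L → n < 64 := fun hn => (Data.mem_elems.1 hn).1
  choose! φ hφ hφe using fun (β : MulAut R) (n : ℕ) (hn : n ∈ Data.elems L) =>
    h.exists_mem hL hRS (autFun_mem β (hR hn))
  have hsq : ∀ n ∈ Data.elems L, D.mu n n ∈ Data.elems L := fun n hn =>
    Data.mem_elems.2 ⟨h.lt n (hlt hn) n (hlt hn), (hL _ (h.lt n (hlt hn) n (hlt hn))).2 (by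
      rw [h.coe_mu (hlt hn) (hlt hn)]; exact mul_mem (hR hn) (hR hn))⟩
  have hmul : ∀ β : MulAut R, ∀ m ∈ Data.elems L, ∀ n ∈ Data.elems L,
      (e (D.mu (φ β m) (φ β n)) : G) = autFun β ((e m : G) * (e n : G)) := fun β m hm n hn => by
    rw [h.coe_mu (hlt (hφ β m hm)) (hlt (hφ β n hn)), hφe β m hm, hφe β n hn,
      autFun_map_mul _ (hR hm) (hR hn)]
  have hinv : ∀ β : MulAut R, ∀ n ∈ Data.elems L, φ β⁻¹ (φ β n) = n := fun β n hn => by
    refine h.coe_inj (hlt (hφ _ _ (hφ β n hn))) (hlt hn) ?_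
    rw [hφe _ _ (hφ β n hn), hφe β n hn, ← autFun_mul _ _ (hR hn), inv_mul_cancel,
      autFun_one (hR hn)]
  have count : ∀ p q : ℕ → Bool, (∀ n ∈ Data.elems L, p n = q (φ α n)) →
      (Data.elems L).countP p = (Data.elems L).countP q := by
    intro p q hpq
    have hnd : (Data.elems L).Nodup := List.nodup_range.filter _
    rw [List.countP_eq_length_filter, List.countP_eq_length_filter,
      ← List.toFinset_card_of_nodup (hnd.filter _), ← List.toFinset_card_of_nodup (hnd.filter _)]
    refine Finset.card_nbij' (φ α) (φ α⁻¹) ?_ ?_ ?_ ?_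
    all_goals intro n hn
    all_goals simp only [Finset.mem_coe, List.mem_toFinset, List.mem_filter] at hn ⊢
    · exact ⟨hφ α n hn.1, hpq n hn.1 ▸ hn.2⟩
    · refine ⟨hφ _ n hn.1, ?_⟩
      have := hinv α⁻¹ n hn.1
      rw [inv_inv] at this
      rw [hpq _ (hφ _ n hn.1), this]
      exact hn.2
    · exact hinv α n hn.1
    · have := hinv α⁻¹ n hn.1
      rwa [inv_inv] at this
  have hsqrt : ∀ c ∈ Data.elems L, D.sqrts L (φ α c) = D.sqrts L c := by
    intro c hc
    refine (count _ _ fun n hn => ?_).symm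
    have hb1 := h.lt n (hlt hn) n (hlt hn)
    have hb2 := h.lt _ (hlt (hφ α n hn)) _ (hlt (hφ α n hn))
    rw [Bool.eq_iff_iff, beq_iff_eq, beq_iff_eq]
    constructor
    · intro he
      refine h.coe_inj hb2 (hlt (hφ α c hc)) ?_
      rw [hmul α n hn n hn, hφe α c hc, ← h.coe_mu (hlt hn) (hlt hn), he]
    · intro he
      have := congrArg (fun m => ((e m : ↥(S : Subgroup G)) : G)) he
      simp only [hmul α n hn n hn, hφe α c hc, ← h.coe_mu (hlt hn) (hlt hn)] at this
      rw [autFun_apply α (hR (hsq n hn)), autFun_apply α (hR hc)] at this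
      exact h.coe_inj hb1 (hlt hc) (congrArg (fun r : R => (r : G)) (α.injective (Subtype.ext this)))
  have hcent : ∀ c ∈ Data.elems L, D.cents L (φ α c) = D.cents L c := by
    intro c hc
    refine (count _ _ fun n hn => ?_).symm
    rw [Bool.eq_iff_iff, beq_iff_eq, beq_iff_eq]
    have h1 := hlt (hφ α c hc)
    have h2 := hlt (hφ α n hn)
    constructor
    · intro he
      refine h.coe_inj (h.lt _ h1 _ h2) (h.lt _ h2 _ h1) ?_
      rw [hmul α c hc n hn, hmul α n hn c hc, ← h.coe_mu (hlt hc) (hlt hn), he,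
        h.coe_mu (hlt hn) (hlt hc)]
    · intro he
      have := congrArg (fun m => ((e m : ↥(S : Subgroup G)) : G)) he
      simp only [hmul α c hc n hn, hmul α n hn c hc] at this
      rw [autFun_apply α (mul_mem (hR hc) (hR hn)), autFun_apply α (mul_mem (hR hn) (hR hc))] at this
      refine h.coe_inj (h.lt _ (hlt hc) _ (hlt hn)) (h.lt _ (hlt hn) _ (hlt hc)) ?_
      rw [h.coe_mu (hlt hc) (hlt hn), h.coe_mu (hlt hn) (hlt hc)]
      exact congrArg (fun r : R => (r : G)) (α.injective (Subtype.ext this))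
  have hsq' : ∀ c ∈ Data.elems L, D.mu (φ α c) (φ α c) = φ α (D.mu c c) := fun c hc =>
    h.coe_inj (h.lt _ (hlt (hφ α c hc)) _ (hlt (hφ α c hc))) (hlt (hφ α _ (hsq c hc))) (by
      rw [hmul α c hc c hc, hφe α _ (hsq c hc), h.coe_mu (hlt hc) (hlt hc)])
  have hflag : ∀ c ∈ Data.elems L, Data.flag (φ α c) = Data.flag c := by
    intro c hc
    have h0 : (e 0 : G) = 1 := by
      simp only [Data.invCheck, Bool.and_eq_true, beq_iff_eq] at hi
      rw [h.one_zero hi.1, Subgroup.coe_one]
    have key : φ α c = 0 ↔ c = 0 := by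
      constructor
      · intro he
        have h1 := (hφe α c hc).symm
        rw [he, h0, autFun_apply α (hR hc)] at h1
        refine h.coe_inj (hlt hc) (by norm_num) ?_
        rw [h0]
        exact congrArg Subtype.val (α.map_eq_one_iff.1 (Subtype.ext h1) : (⟨_, hR hc⟩ : R) = 1)
      · rintro rfl
        refine h.coe_inj (hlt (hφ α 0 hc)) (by norm_num) ?_
        rw [hφe α 0 hc, h0, autFun_apply α (one_mem R)]
        exact congrArg Subtype.val (map_one α)
    simp only [Data.flag, beq_iff_eq, key]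
  have hb' : b = φ α a := h.coe_inj (hlt hb) (hlt (hφ α a ha)) (hab.trans (hφe α a ha).symm)
  subst hb'
  simp only [Data.col]
  rw [hsq' a ha, hsq' _ (hsq a ha), hsqrt a ha, hcent a ha, hsqrt _ (hsq a ha), hcent _ (hsq a ha),
    hflag a ha, hflag _ (hsq a ha), hflag _ (hsq _ (hsq a ha))]

theorem conj_normalizer (hi : D.invCheck = true) {R : Subgroup G} {L : ℕ} (hL : IsMask e L R)
    (hRS : R ≤ (S : Subgroup G)) {x : ℕ} (hx : x < 64) :
    (e x : G) ∈ Subgroup.normalizer (R : Set G) ↔
      ∀ n ∈ Data.elems L, L.testBit (D.conj x n) = true := by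
  constructor
  · intro hn n hn'
    obtain ⟨h1, h2⟩ := Data.mem_elems.1 hn'
    rw [hL _ (h.conj_lt hx h1), h.coe_conj hi hx h1]
    exact (Subgroup.mem_normalizer_iff.1 hn _).1 ((hL n h1).1 h2)
  · intro hc
    rw [← conjBy_eq_iff]
    refine conjBy_eq_of_le (conjBy_le_iff.2 fun z hz => ?_)
    obtain ⟨n, hn, rfl⟩ := h.exists_mem hL hRS hz
    obtain ⟨h1, -⟩ := Data.mem_elems.1 hn
    have := hc n hn
    rwa [hL _ (h.conj_lt hx h1), h.coe_conj hi hx h1] at this

/-- A certified subgroup is not essential. -/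
theorem not_essential (hi : D.invCheck = true) {R : Subgroup G} {L : ℕ} (hL : IsMask e L R)
    (hRS : R ≤ (S : Subgroup G)) {c : Cert} (hc : D.ok L c = true) :
    ¬ (groupFusionSystem (S : Subgroup G)).IsEssential 2 R := by
  haveI : Fact (Nat.Prime 2) := ⟨Nat.prime_two⟩
  have hR : ∀ {n : ℕ}, n ∈ Data.elems L → (e n : G) ∈ R := fun hn =>
    (hL _ (Data.mem_elems.1 hn).1).1 (Data.mem_elems.1 hn).2
  have hlt : ∀ {M n : ℕ}, n ∈ Data.elems M → n < 64 := fun hn => (Data.mem_elems.1 hn).1
  have h00 : (e 0 : G) = 1 := by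
    have h0 := hi
    simp only [Data.invCheck, Bool.and_eq_true, beq_iff_eq] at h0
    rw [h.one_zero h0.1, Subgroup.coe_one]
  have hexp : ∀ z ∈ R, z ^ 64 = 1 := by
    intro z hz
    have hS : Nat.card ↥(S : Subgroup G) = 64 := by
      have hb : Function.Bijective fun n : Fin 64 => e n := ⟨fun a b he =>
        Fin.ext (h.inj a a.2 b b.2 he), fun s => by
          obtain ⟨n, hn, he⟩ := h.surj s; exact ⟨⟨n, hn⟩, he⟩⟩
      rw [← Nat.card_eq_of_bijective _ hb, Nat.card_fin]
    have := pow_card_eq_one' (x := (⟨z, hRS hz⟩ : ↥(S : Subgroup G)))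
    rw [hS] at this
    exact congrArg Subtype.val this
  cases c with
  | nc x =>
    simp only [Data.ok, Data.okNc, Bool.and_eq_true, decide_eq_true_eq, Bool.not_eq_true',
      List.all_eq_true, beq_iff_eq] at hc
    obtain ⟨hx, hxL, hcomm⟩ := hc
    refine not_essential_of_centralizing S (e x).2 (fun hxR => ?_) fun r hr => ?_
    · rw [(hL x hx).2 hxR] at hxL; exact absurd hxL (by simp)
    · obtain ⟨n, hn, rfl⟩ := h.exists_mem hL hRS hr
      rw [← h.coe_mu hx (hlt hn), hcomm n hn, h.coe_mu (hlt hn) hx]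
  | chain x ch =>
    simp only [Data.ok, Data.okChain, Bool.and_eq_true, decide_eq_true_eq, Bool.not_eq_true',
      List.all_eq_true, beq_iff_eq, List.mem_range] at hc
    obtain ⟨hx, hxL, hxn, hhead, hlast, hall, hstep⟩ := hc
    have hmem : ∀ i, ∃ Q : Subgroup G, Q ≤ (S : Subgroup G) ∧ IsMask e (Data.members ch i) Q := by
      intro i
      by_cases hi' : i < ch.length
      · refine h.exists_subgroup hi ?_
        rw [Data.members, List.getD_eq_getElem _ _ hi']
        exact (hall _ (List.getElem_mem hi')).2.1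
      · refine ⟨⊥, bot_le, fun n hn => ?_⟩
        rw [Data.members, List.getD_eq_default _ _ (by omega), Data.testBit_one, Subgroup.mem_bot]
        exact ⟨fun hn0 => by rw [hn0, h00], fun he => h.coe_inj hn (by norm_num) (he.trans h00.symm)⟩
    choose Q hQS hQ using hmem
    have hQ0 : Q 0 = R := by
      ext z
      constructor
      · intro hz
        obtain ⟨n, hn, rfl⟩ := h.exists_mem (hQ 0) (hQS 0) hz
        rw [hhead] at hn
        exact hR hn
      · intro hz
        obtain ⟨n, hn, rfl⟩ := h.exists_mem hL hRS hz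
        rw [← hhead] at hn
        exact (hQ 0 n (hlt hn)).1 (Data.mem_elems.1 hn).2
    refine not_essential_of_chain S (e x).2 (fun hxR => ?_) ((h.conj_normalizer hi hL hRS hx).2 hxn)
      (n := ch.length) Q hQ0 ?_ ?_ hexp ?_ ?_
    · rw [(hL x hx).2 hxR] at hxL; exact absurd hxL (by simp)
    · intro i hi' z hz
      obtain ⟨n, hn, rfl⟩ := h.exists_mem (hQ _) (hQS _) hz
      have := (hstep i hi').1
      simp only [Data.sub, List.all_eq_true] at this
      exact (hQ i n (hlt hn)).1 (this n hn)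
    · rw [eq_bot_iff]
      intro z hz
      obtain ⟨n, hn, rfl⟩ := h.exists_mem (hQ _) (hQS _) hz
      rw [hlast] at hn
      rw [Subgroup.mem_bot, Data.testBit_one.1 (Data.mem_elems.1 hn).2, h00]
    · intro α i hi' z hz
      obtain ⟨n, hn, rfl⟩ := h.exists_mem (hQ _) (hQS _) hz
      rcases Nat.lt_or_ge i ch.length with hlt' | hge
      · have hm := hall _ (List.getElem_mem hlt')
        have em : (ch[i]).1 = Data.members ch i := by
          rw [Data.members, List.getD_eq_getElem _ _ hlt']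
        rw [em] at hm
        obtain ⟨hsub, -, hcol⟩ := hm
        simp only [Data.sub, List.all_eq_true] at hsub
        have hnL : n ∈ Data.elems L := Data.mem_elems.2 ⟨hlt hn, hsub n hn⟩
        obtain ⟨m, hm', hme⟩ := h.exists_mem hL hRS (autFun_mem α (hR hnL))
        rw [← hme]
        refine (hQ i m (hlt hm')).1 ?_
        rw [hcol m hm', h.col_autFun hi hL hRS α hnL hm' hme, ← hcol n hnL]
        exact (Data.mem_elems.1 hn).2
      · obtain rfl : i = ch.length := le_antisymm hi' hge
        rw [hlast] at hn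
        rw [Data.testBit_one.1 (Data.mem_elems.1 hn).2, h00, autFun_apply α (one_mem R),
          show (α ⟨1, one_mem R⟩ : R) = 1 from map_one α, Subgroup.coe_one]
        exact one_mem _
    · intro i hi' z hz
      obtain ⟨n, hn, rfl⟩ := h.exists_mem (hQ _) (hQS _) hz
      have := (hstep i hi').2 n hn
      rw [hQ (i + 1) _ (h.comm_lt hx (hlt hn)), h.coe_comm hi hx (hlt hn)] at this
      exact this
  | eight N =>
    simp only [Data.ok, Data.okEight, Bool.and_eq_true, List.all_eq_true, beq_iff_eq,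
      List.mem_range, Bool.or_eq_true, Bool.not_eq_true'] at hc
    obtain ⟨hL8, hLab, hN, hN32, hpair⟩ := hc
    have hNm : IsMask e N (normalizerIn (S : Subgroup G) R) := fun x hx => by
      rw [hN x hx, List.all_eq_true, ← h.conj_normalizer hi hL hRS hx]
      exact ⟨fun hh => ⟨(e x).2, hh⟩, fun hh => hh.2⟩
    refine not_essential_of_eight S (by rw [h.card_eq hL hRS, hL8]) ?_ ?_
      (by rw [h.card_eq hNm inf_le_left, hN32]) ?_
    · intro a ha b hb
      obtain ⟨m, hm, rfl⟩ := h.exists_mem hL hRS ha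
      obtain ⟨n, hn, rfl⟩ := h.exists_mem hL hRS hb
      rw [← h.coe_mu (hlt hm) (hlt hn), (hLab m hm).2 n hn, h.coe_mu (hlt hn) (hlt hm)]
    · intro a ha
      obtain ⟨m, hm, rfl⟩ := h.exists_mem hL hRS ha
      rw [← h.coe_mu (hlt hm) (hlt hm), (hLab m hm).1, h00]
    intro g hg hgR hgg α hα
    obtain ⟨x, hx, rfl⟩ := h.exists_mem hNm inf_le_left hg
    have hx64 := hlt hx
    have hxn : (e x : G) ∈ Subgroup.normalizer (R : Set G) := hg.2
    have hp : D.okPair L x = true := by
      refine ((hpair x hx).resolve_left fun hb => hgR ((hL x hx64).1 hb)).resolve_left ?_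
      rw [Bool.not_eq_false, hL _ (h.lt x hx64 x hx64), h.coe_mu hx64 hx64]
      exact hgg
    simp only [Data.okPair, Bool.and_eq_true] at hp
    obtain ⟨hcC, hcE, hEC, hCL, hLC, hCE, hE1⟩ := hp
    obtain ⟨C, hCS, hC⟩ := h.exists_subgroup hi hcC
    obtain ⟨E, hES, hE⟩ := h.exists_subgroup hi hcE
    have sub_le : ∀ {a b : ℕ} {A B : Subgroup G}, IsMask e a A → A ≤ (S : Subgroup G) →
        IsMask e b B → Data.sub a b = true → A ≤ B := by
      intro a b A B hA hAS hB hab z hz
      obtain ⟨n, hn, rfl⟩ := h.exists_mem hA hAS hz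
      simp only [Data.sub, List.all_eq_true] at hab
      exact (hB n (hlt hn)).1 (hab n hn)
    have hCR : C ≤ R := sub_le hC hCS hL hCL
    have hEle : E ≤ C := sub_le hE hES hC hEC
    have hbotm : IsMask e 1 (⊥ : Subgroup G) := fun n hn => by
      rw [Data.testBit_one, Subgroup.mem_bot]
      exact ⟨fun hn0 => by rw [hn0, h00], fun he => h.coe_inj hn (by norm_num) (he.trans h00.symm)⟩
    have two_diff : ∀ {a b : ℕ} {A B : Subgroup G}, IsMask e a A → A ≤ (S : Subgroup G) →
        IsMask e b B → D.two a b = true → ∀ y ∈ A, y ∉ B → ∀ z ∈ A, z ∉ B → y * z⁻¹ ∈ B := by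
      intro a b A B hA hAS hB hab y hy hyB z hz hzB
      obtain ⟨m, hm, rfl⟩ := h.exists_mem hA hAS hy
      obtain ⟨n, hn, rfl⟩ := h.exists_mem hA hAS hz
      simp only [Data.two, List.all_eq_true, Bool.or_eq_true] at hab
      have := ((hab m hm).resolve_left fun hb => hyB ((hB m (hlt hm)).1 hb)) n hn
      have := this.resolve_left fun hb => hzB ((hB n (hlt hn)).1 hb)
      rwa [hB _ (h.lt m (hlt hm) _ (h.inv_lt n)),
        h.coe_mu (hlt hm) (h.inv_lt n),
        h.coe_inv hi (hlt hn)] at this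
    -- both are invariant
    have hCiff : ∀ z ∈ R, z ∈ C ↔ (e x : G) * z * (e x : G)⁻¹ = z := by
      intro z hz
      obtain ⟨n, hn, rfl⟩ := h.exists_mem hL hRS hz
      rw [← hC n (hlt hn), Data.fixMask, Data.testBit_fold]
      constructor
      · rintro (hb | ⟨m, hm, hmc, rfl⟩)
        · rw [Data.testBit_one.1 hb, h00, mul_one, mul_inv_cancel]
        · rw [beq_iff_eq] at hmc
          rw [← h.coe_mu hx64 (hlt hm), hmc, h.coe_mu (hlt hm) hx64, mul_inv_cancel_right]
      · intro he
        refine Or.inr ⟨n, hn, ?_, rfl⟩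
        rw [beq_iff_eq]
        refine h.coe_inj (h.lt x hx64 n (hlt hn)) (h.lt n (hlt hn) x hx64) ?_
        rw [h.coe_mu hx64 (hlt hn), h.coe_mu (hlt hn) hx64]
        exact mul_inv_eq_iff_eq_mul.1 he
    have hEiff : ∀ w, w ∈ E ↔
        ∃ z ∈ R, w = (e x : G) * z * (e x : G)⁻¹ * z⁻¹ := by
      intro w
      constructor
      · intro hw
        obtain ⟨n, hn, rfl⟩ := h.exists_mem hE hES hw
        have hb := (Data.mem_elems.1 hn).2
        rw [Data.moveMask, Data.testBit_fold'] at hb
        rcases hb with hb | ⟨m, hm, rfl⟩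
        · exact ⟨1, one_mem R, by rw [Data.testBit_one.1 hb, h00]; group⟩
        · exact ⟨_, hR hm, h.coe_comm hi hx64 (hlt hm)⟩
      · rintro ⟨z, hz, rfl⟩
        obtain ⟨m, hm, rfl⟩ := h.exists_mem hL hRS hz
        have hlt'' : D.comm x m < 64 := h.comm_lt hx64 (hlt hm)
        rw [← h.coe_comm hi hx64 (hlt hm), ← hE _ hlt'', Data.moveMask, Data.testBit_fold']
        exact Or.inr ⟨m, hm, rfl⟩
    have comm' : ∀ β : MulAut R, (∀ z ∈ R, autFun β ((e x : G) * z * (e x : G)⁻¹) =
        (e x : G) * autFun β z * (e x : G)⁻¹) →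
        (∀ z ∈ C, autFun β z ∈ C) ∧ (∀ z ∈ E, autFun β z ∈ E) := by
      intro β hβ
      refine ⟨fun z hz => ?_, fun w hw => ?_⟩
      · rw [hCiff _ (autFun_mem β (hCR hz)), ← hβ z (hCR hz), (hCiff z (hCR hz)).1 hz]
      · obtain ⟨z, hz, rfl⟩ := (hEiff w).1 hw
        refine (hEiff _).2 ⟨autFun β z, autFun_mem β hz, ?_⟩
        have hzx : (e x : G) * z * (e x : G)⁻¹ ∈ R := (Subgroup.mem_normalizer_iff.1 hxn z).1 hz
        rw [autFun_map_mul β hzx (inv_mem hz), hβ z hz]
        congr 1
        have h1 := autFun_map_mul β (inv_mem hz) hz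
        rw [inv_mul_cancel, autFun_apply β (one_mem R),
          show (β ⟨1, one_mem R⟩ : R) = 1 from map_one β, Subgroup.coe_one] at h1
        exact eq_inv_of_mul_eq_one_left h1.symm
    have hα' : ∀ z ∈ R, autFun α⁻¹ ((e x : G) * z * (e x : G)⁻¹) =
        (e x : G) * autFun α⁻¹ z * (e x : G)⁻¹ := by
      intro z hz
      have hz' := autFun_mem α⁻¹ hz
      have hwR : (e x : G) * autFun α⁻¹ z * (e x : G)⁻¹ ∈ R :=
        (Subgroup.mem_normalizer_iff.1 hxn _).1 hz'
      have h1 := hα _ hz'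
      rw [← autFun_mul _ _ hz, mul_inv_cancel, autFun_one hz] at h1
      rw [← h1, ← autFun_mul _ _ hwR, inv_mul_cancel, autFun_one hwR]
    let Q : ℕ → Subgroup G
      | 0 => R
      | 1 => C
      | 2 => E
      | _ => ⊥
    have anti : ∀ i < 3, Q (i + 1) ≤ Q i := by
      intro i hi'
      match i, hi' with
      | 0, _ => exact hCR
      | 1, _ => exact hEle
      | 2, _ => exact bot_le
    refine ⟨6 * 3, pow_eq_one_of_mem_stab (n := 3) (Q := Q) (h0 := rfl) (anti := anti) rfl hexp ?_⟩
    have gen : ∀ {A B : Subgroup G}, B ≤ A → A ≤ R →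
        (∀ β : MulAut R, (∀ z ∈ R, autFun β ((e x : G) * z * (e x : G)⁻¹) =
          (e x : G) * autFun β z * (e x : G)⁻¹) → ∀ z ∈ A, autFun β z ∈ A) →
        (∀ β : MulAut R, (∀ z ∈ R, autFun β ((e x : G) * z * (e x : G)⁻¹) =
          (e x : G) * autFun β z * (e x : G)⁻¹) → ∀ z ∈ B, autFun β z ∈ B) →
        (∀ y ∈ A, y ∉ B → ∀ z ∈ A, z ∉ B → y * z⁻¹ ∈ B) →
        ∀ z ∈ A, autFun α z * z⁻¹ ∈ B := by
      intro A B hBA hAR hA hB hd z hz
      by_cases hzB : z ∈ B
      · exact mul_mem (hB α hα z hzB) (inv_mem hzB)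
      · refine hd _ (hA α hα z hz) (fun hh => hzB ?_) z hz hzB
        have := hB α⁻¹ hα' _ hh
        rwa [← autFun_mul _ _ (hAR hz), inv_mul_cancel, autFun_one (hAR hz)] at this
    rw [mem_stab]
    intro i hi'
    match i, hi' with
    | 0, _ =>
      exact gen hCR le_rfl (fun β _ z hz => autFun_mem β hz) (fun β hβ => (comm' β hβ).1)
        (two_diff hL hRS hC hLC)
    | 1, _ =>
      exact gen hEle hCR (fun β hβ => (comm' β hβ).1) (fun β hβ => (comm' β hβ).2)
        (two_diff hC hCS hE hCE)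
    | 2, _ =>
      exact gen (A := E) (B := ⊥) bot_le (hEle.trans hCR) (fun β hβ => (comm' β hβ).2)
        (fun β _ z hz => by
          rw [Subgroup.mem_bot] at hz
          subst hz
          rw [autFun_apply β (one_mem R), show (β ⟨1, one_mem R⟩ : R) = 1 from map_one β,
            Subgroup.coe_one]
          exact one_mem _)
        (two_diff hE hES hbotm hE1)

end Coord

/-- A group with Sylow subgroup coordinatized by checked data is not simple. -/
theorem not_simple [IsSimpleGroup G] (hna : ¬ IsMulCommutative G) (h : Coord D.mu e)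
    (hD : D.check = true) : False := by
  haveI : Fact (Nat.Prime 2) := ⟨Nat.prime_two⟩
  simp only [Data.check, Bool.and_eq_true] at hD
  obtain ⟨hi, hm, hs, hcert⟩ := hD
  simp only [Data.mCheck, Bool.and_eq_true, List.all_eq_true, List.any_eq_true, List.mem_range,
    Bool.or_eq_true, Bool.not_eq_true', beq_iff_eq] at hm
  obtain ⟨hMc, ⟨n₀, hn₀, hn₀M⟩, hMcol, hMab⟩ := hm
  obtain ⟨M, hMS, hM⟩ := h.exists_subgroup hi hMc
  have hR : ∀ s ∈ (S : Subgroup G), ∀ x ∈ (S : Subgroup G), x⁻¹ * (s * x * s⁻¹) ∈ M := by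
    intro s hs' x hx
    obtain ⟨b, hb, rfl⟩ := h.exists_code hs'
    obtain ⟨a, ha, rfl⟩ := h.exists_code hx
    have hc : D.conj b a < 64 := h.conj_lt hb ha
    have := (hMab a ha b hb).1
    rwa [hM _ (h.lt _ (h.inv_lt a) _ hc),
      h.coe_mu (h.inv_lt a) hc, h.coe_inv hi ha,
      h.coe_conj hi hb ha] at this
  have hF := isSaturated_group (p := 2) S
  have hle : groupFusionSystem (S : Subgroup G) ≤
      SmallTwo.commSys (groupFusionSystem (S : Subgroup G)) M hR := by
    refine le_of_autGroup_le S.2 hF fun R hR' α hα => ?_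
    have hRS : R ≤ (S : Subgroup G) := by
      rcases hR' with rfl | hess
      · exact le_rfl
      · exact hess.2.1.1
    rw [mem_autGroup_iff hRS]
    obtain ⟨φ, hφ, hφe⟩ := (mem_autGroup_iff hRS).1 hα
    refine ⟨φ, ⟨hφ, fun z => ?_⟩, hφe⟩
    rw [hφe z]
    obtain ⟨L, hLs, hL⟩ := h.exists_mask hi hs R hRS
    have hfull : (∀ n < 64, (e n : G) ∈ R) → (z : G)⁻¹ * autFun α z ∈ M := by
      intro hall
      have hLf : IsMask e Data.full R := fun n hn => by simp [Data.testBit_full hn, hall n hn]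
      obtain ⟨a, ha, hae⟩ := h.exists_mem hLf hRS z.2
      obtain ⟨b, hb, hbe⟩ := h.exists_mem hLf hRS (autFun_mem α z.2)
      have ha' := (Data.mem_elems.1 ha).1
      have hb' := (Data.mem_elems.1 hb).1
      have hcol := h.col_autFun hi hLf hRS α ha hb (by rw [hbe, hae])
      have hiff : D.M.testBit a = D.M.testBit b := by rw [hMcol a ha', hMcol b hb', hcol]
      rw [← hbe, ← hae]
      by_cases hMa : D.M.testBit a = true
      · exact mul_mem (inv_mem ((hM a ha').1 hMa)) ((hM b hb').1 (hiff ▸ hMa))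
      · have := ((hMab a ha' b hb').2.resolve_left hMa).resolve_left (hiff ▸ hMa)
        rwa [hM _ (h.lt _ (h.inv_lt a) _ hb'),
          h.coe_mu (h.inv_lt a) hb', h.coe_inv hi ha'] at this
    simp only [Data.certCheck, List.all_eq_true, Bool.or_eq_true, List.any_eq_true,
      Bool.and_eq_true, beq_iff_eq] at hcert
    rcases hcert L hLs with rfl | hsub | ⟨c, -, -, hok⟩
    · exact hfull fun n hn => (hL n hn).1 (Data.testBit_full hn)
    · obtain ⟨a, ha, hae⟩ := h.exists_mem hL hRS z.2
      obtain ⟨b, hb, hbe⟩ := h.exists_mem hL hRS (autFun_mem α z.2)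
      simp only [Data.sub, List.all_eq_true] at hsub
      rw [← hbe, ← hae]
      exact mul_mem (inv_mem ((hM a (Data.mem_elems.1 ha).1).1 (hsub a ha)))
        ((hM b (Data.mem_elems.1 hb).1).1 (hsub b hb))
    · rcases hR' with rfl | hess
      · exact hfull fun n _ => (e n).2
      · exact absurd hess (h.not_essential hi hL hRS hok)
  have hfoc : (groupFusionSystem (S : Subgroup G)).focalSubgroup ≤ M := by
    refine (Subgroup.closure_le _).2 ?_
    rintro w ⟨U, ψ, x, hψ, rfl⟩
    exact (hle U hψ).2 x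
  have hcomm : commutator G = ⊤ := by
    rcases IsSimpleGroup.eq_bot_or_eq_top_of_normal (commutator G) inferInstance with hb | ht
    · exact absurd (⟨⟨fun a b => by
        have := Subgroup.commutator_mem_commutator (Subgroup.mem_top a) (Subgroup.mem_top b)
        rw [← commutator_def, hb, Subgroup.mem_bot] at this
        exact commutatorElement_eq_one_iff_mul_comm.1 this⟩⟩ : IsMulCommutative G) hna
    · exact ht
  have hmem : (e n₀ : G) ∈ M := hfoc (inf_commutator_le_focal_group S
    (Subgroup.mem_inf.2 ⟨(e n₀).2, hcomm ▸ Subgroup.mem_top _⟩))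
  rw [(hM n₀ hn₀).2 hmem] at hn₀M
  exact absurd hn₀M (by simp)

end CfsgLib.Spor.SixtyFour
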