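import Cfsg.Agent.Lib.Spor.SixtyFour.Main
import Cfsg.Prelude.Def_Spor_Mathieu

/-!
# From recognition by the Sylow subgroup to recognition by the element of order eight
-/

set_option autoImplicit false

namespace CfsgLib.Spor.SixtyFour

universe u

/-- The reduction: a recognition of `M₁₂` by its Sylow two-subgroup and two involution classes gives
recognition by a self-centralising rational element of order eight. -/
theorem iso_of_recognition {G : Type u} [Group G] [Finite G] [IsSimpleGroup G]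
    (hrec : ∀ (S : Sylow 2 G) (Q : Sylow 2 ↥Cfsg.Spor.M12),
      Nonempty (↥(S : Subgroup G) ≃* ↥(Q : Subgroup ↥Cfsg.Spor.M12)) →
      (∃ x y : G, orderOf x = 2 ∧ orderOf y = 2 ∧ ¬ IsConj x y) → Cfsg.Spor.IsoM12 G)
    (hna : ¬ IsMulCommutative G) (P : Sylow 2 G) (hP : Nat.card (P : Subgroup G) = 64)
    (f : G) (hfP : f ∈ (P : Subgroup G)) (hf : orderOf f = 8)
    (hself : ∀ x ∈ (P : Subgroup G), x * f = f * x → x ∈ Subgroup.zpowers f)
    (hodd : ∀ k ∈ ({3, 5, 7} : Set ℕ), ∃ x ∈ (P : Subgroup G), x * f * x⁻¹ = f ^ k)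
    (htwo : ∃ s t : G, orderOf s = 2 ∧ orderOf t = 2 ∧ ¬ IsConj s t) :
    Nonempty (G ≃* Cfsg.Spor.M12) := by
  obtain ⟨Q, hQ⟩ := exists_sylow_equiv hna P hP hfP hf hself hodd
  exact hrec P Q hQ htwo

end CfsgLib.Spor.SixtyFour
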