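import Cfsg.Agent.Lib.Spor.SylowTwoM12
import Cfsg.Agent.Lib.Spor.SixtyFour.Tables
import Cfsg.Agent.Lib.Spor.SixtyFour.Coord

/-!
# A Sylow two-subgroup of `M₁₂` has the first type
-/

set_option autoImplicit false
set_option maxRecDepth 10000

namespace CfsgLib.Spor.SixtyFour

open CfsgLib.Spor

/-- The listed element of a code. -/
def sigmaM12 (n : ℕ) : ℕ := (0x95737f567f4f32693ef1650ed4776f177b5f736d2eb0611e8c9ee14f92d1eb88a0288490cd9af10e96c1aa8cb0698080 >>> (6 * n)) % 64

theorem sigmaM12_mul : ((List.range 64).all fun m => (List.range 64).all fun n =>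
    permMulCode (SylTwoM12.data.el (sigmaM12 m)) (SylTwoM12.data.el (sigmaM12 n)) ==
      SylTwoM12.data.el (sigmaM12 (tbl (table 0) m n))) = true := by
  decide +kernel

theorem sigmaM12_inj : ((List.range 64).all fun m => (List.range 64).all fun n =>
    (m == n) || !(sigmaM12 m == sigmaM12 n)) = true := by
  decide +kernel

/-- A Sylow two-subgroup of `M₁₂` with coordinates of the first type. -/
theorem exists_sylow_m12 : ∃ (P : Sylow 2 Cfsg.Spor.M12) (e : ℕ → ↥(P : Subgroup Cfsg.Spor.M12)),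
    Coord (tbl (table 0)) e := by
  haveI : Fact (Nat.Prime 2) := ⟨Nat.prime_two⟩
  have hv := SylTwoM12.valid
  have hsize : SylTwoM12.data.size = 64 := rfl
  have hcard : Nat.card hv.syl = 64 := by
    rw [Nat.card_congr (Subgroup.subgroupOfEquivOfLe hv.grp_le).toEquiv, hv.card_grp, hsize]
  let P : Sylow 2 Cfsg.Spor.M12 := Sylow.ofCard hv.syl (by
    rw [hcard, card_sporM12, Nat.factorization_def _ Nat.prime_two,
      padicValNat_def' (by norm_num) (by norm_num)]
    rw [show multiplicity 2 95040 = 6 from multiplicity_eq_of_dvd_of_not_dvd (by norm_num) (by norm_num)]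
    norm_num)
  have hs : ∀ n, sigmaM12 n < SylTwoM12.data.size := fun n => by
    rw [hsize]; exact Nat.mod_lt _ (by norm_num)
  have hmul := sigmaM12_mul
  have hinj := sigmaM12_inj
  simp only [List.all_eq_true, List.mem_range, beq_iff_eq] at hmul
  simp only [List.all_eq_true, List.mem_range, Bool.or_eq_true, beq_iff_eq, Bool.not_eq_true',
    beq_eq_false_iff_ne] at hinj
  let e : ℕ → ↥(P : Subgroup Cfsg.Spor.M12) := fun n => ⟨hv.q (sigmaM12 n), hv.q_mem (hs n)⟩
  have einj : ∀ m < 64, ∀ n < 64, e m = e n → m = n := by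
    intro m hm n hn he
    refine (hinj m hm n hn).resolve_right fun hne => hne ?_
    have h1 := congrArg (fun z => ((Subtype.val z : Cfsg.Spor.M12) : Equiv.Perm Cfsg.GolayPt)) he
    simp only [e, hv.coe_q (hs m), hv.coe_q (hs n)] at h1
    exact hv.injOn (hs m) (hs n) h1
  refine ⟨P, e, fun m _ n _ => tbl_lt _ _ _, fun m hm n hn => Subtype.ext ?_, einj, fun s => ?_⟩
  · rw [Subgroup.coe_mul]
    exact (hv.q_mul_eq (hs m) (hs n) (hs _) (hmul m hm n hn)).symm
  · have hb : Function.Bijective fun n : Fin 64 => e n :=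
      (Nat.bijective_iff_injective_and_card _).2 ⟨fun a b he => Fin.ext (einj a a.2 b b.2 he), by
        rw [Nat.card_fin]; exact hcard.symm⟩
    obtain ⟨n, hn⟩ := hb.2 s
    exact ⟨n, n.2, hn⟩

end CfsgLib.Spor.SixtyFour
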