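import Cfsg.Agent.Lib.Spor.SixtyFour.Classify
import Cfsg.Agent.Lib.Spor.SixtyFour.Type1
import Cfsg.Agent.Lib.Spor.SixtyFour.Type2
import Cfsg.Agent.Lib.Spor.SixtyFour.Type3
import Cfsg.Agent.Lib.Spor.SixtyFour.Type4
import Cfsg.Agent.Lib.Spor.SixtyFour.Type5
import Cfsg.Agent.Lib.Spor.SixtyFour.Type6
import Cfsg.Agent.Lib.Spor.SixtyFour.M12Sylow

/-!
# The Sylow two-subgroup is that of `M₁₂`
-/

set_option autoImplicit false

namespace CfsgLib.Spor.SixtyFour

universe u

/-- A simple group with a self-centralising rational element of order eight in a Sylow two-subgroup of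
order 64 has the Sylow two-subgroup of `M₁₂`. -/
theorem exists_sylow_equiv {G : Type u} [Group G] [Finite G] [IsSimpleGroup G]
    (hna : ¬ IsMulCommutative G) (P : Sylow 2 G) (hP : Nat.card (P : Subgroup G) = 64)
    {f : G} (hfP : f ∈ (P : Subgroup G)) (hf : orderOf f = 8)
    (hself : ∀ x ∈ (P : Subgroup G), x * f = f * x → x ∈ Subgroup.zpowers f)
    (hodd : ∀ k ∈ ({3, 5, 7} : Set ℕ), ∃ x ∈ (P : Subgroup G), x * f * x⁻¹ = f ^ k) :
    ∃ Q : Sylow 2 Cfsg.Spor.M12,
      Nonempty (↥(P : Subgroup G) ≃* ↥(Q : Subgroup Cfsg.Spor.M12)) := by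
  set f' : ↥(P : Subgroup G) := ⟨f, hfP⟩ with hf'
  have ho : orderOf f' = 8 := by rw [← Subgroup.orderOf_coe]; exact hf
  have hs : ∀ s : ↥(P : Subgroup G), s * f' = f' * s → ∃ k < 8, s = f' ^ k := by
    intro s hc
    obtain ⟨z, hz⟩ := Subgroup.mem_zpowers_iff.1 (hself s s.2 (congrArg Subtype.val hc))
    refine ⟨(z % 8).toNat, by omega, Subtype.ext ?_⟩
    rw [Subgroup.coe_pow, ← hz, ← zpow_natCast, Int.toNat_of_nonneg (Int.emod_nonneg z (by norm_num))]
    exact (zpow_mod_orderOf f z).symm.trans (by rw [hf]; rfl)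
  have hconj : ∀ k ∈ ({3, 5, 7} : Set ℕ), ∃ s : ↥(P : Subgroup G), s * f' = f' ^ k * s := by
    intro k hk
    obtain ⟨x, hx, e⟩ := hodd k hk
    exact ⟨⟨x, hx⟩, Subtype.ext (by
      rw [Subgroup.coe_mul, Subgroup.coe_mul, Subgroup.coe_pow]
      exact mul_inv_eq_iff_eq_mul.1 e)⟩
  obtain ⟨k, hk, e, he⟩ := exists_coord (by exact hP) ho hs (hconj 3 (by simp)) (hconj 5 (by simp))
  interval_cases k
  · obtain ⟨Q, e', he'⟩ := exists_sylow_m12
    exact ⟨Q, he.mulEquiv he'⟩
  · exact (not_simple (D := data1) hna he data1_check).elim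
  · exact (not_simple (D := data2) hna he data2_check).elim
  · exact (not_simple (D := data3) hna he data3_check).elim
  · exact (not_simple (D := data4) hna he data4_check).elim
  · exact (not_simple (D := data5) hna he data5_check).elim
  · exact (not_simple (D := data6) hna he data6_check).elim

end CfsgLib.Spor.SixtyFour
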