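import Mathlib

/-!
# Codes for groups of order 64 with a normal subgroup `⟨f, x, y⟩` of order 32

The code `i + 8a + 16b + 32c` stands for `f ^ i * x ^ a * y ^ b * t ^ c`.
-/

set_option autoImplicit false

namespace CfsgLib.Spor.SixtyFour

/-- The parameters: `y * x = f ^ w * x * y`, the images of `f`, `x`, `y` under `t`, and `t * t`. -/
structure Par where
  w : ℕ
  A : ℕ
  B : ℕ
  C : ℕ
  G : ℕ

def stepF (n : ℕ) : ℕ := n / 8 * 8 + (n % 8 + 1) % 8

def stepX (n : ℕ) : ℕ :=
  (3 * (n % 8)) % 8 + 8 * ((n / 8 % 2 + 1) % 2) + 16 * (n / 16 % 2) + 32 * (n / 32)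

def stepY (w n : ℕ) : ℕ :=
  (5 * (n % 8) + w * (n / 8 % 2)) % 8 + 8 * (n / 8 % 2) + 16 * ((n / 16 % 2 + 1) % 2) +
    32 * (n / 32)

def hmul (w m n : ℕ) : ℕ := stepF^[m % 8] (stepX^[m / 8 % 2] ((stepY w)^[m / 16 % 2] n))

def hpow (w A k : ℕ) : ℕ := (hmul w A)^[k] 0

def Par.theta (p : Par) (n : ℕ) : ℕ :=
  (hmul p.w p.A)^[n % 8] ((hmul p.w p.B)^[n / 8 % 2] ((hmul p.w p.C)^[n / 16 % 2] 0))

def Par.stepT (p : Par) (n : ℕ) : ℕ :=
  if n < 32 then p.theta n + 32 else hmul p.w (p.theta (n - 32)) p.G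

def Par.mul (p : Par) (m n : ℕ) : ℕ := hmul p.w (m % 32) (p.stepT^[m / 32] n)

/-! ### Bounds -/

theorem iterate_mem {g : ℕ → ℕ} {P : ℕ → Prop} (h : ∀ n, P n → P (g n)) :
    ∀ k n, P n → P (g^[k] n)
  | 0, _, hn => hn
  | k + 1, n, hn => by
    rw [Function.iterate_succ_apply]
    exact iterate_mem h k (g n) (h n hn)

theorem stepF_lt {n b : ℕ} (hb : b = 32 ∨ b = 64) (h : n < b) : stepF n < b := by
  rw [stepF]; omega

theorem stepX_lt {n b : ℕ} (hb : b = 32 ∨ b = 64) (h : n < b) : stepX n < b := by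
  rw [stepX]; omega

theorem stepY_lt {w n b : ℕ} (hb : b = 32 ∨ b = 64) (h : n < b) : stepY w n < b := by
  rw [stepY]
  have : (5 * (n % 8) + w * (n / 8 % 2)) % 8 < 8 := Nat.mod_lt _ (by norm_num)
  omega

theorem hmul_lt {w m n b : ℕ} (hb : b = 32 ∨ b = 64) (h : n < b) : hmul w m n < b :=
  iterate_mem (P := (· < b)) (fun _ => stepF_lt hb) _ _
    (iterate_mem (P := (· < b)) (fun _ => stepX_lt hb) _ _
      (iterate_mem (P := (· < b)) (fun _ => stepY_lt hb) _ _ h))

theorem hpow_lt (w A k : ℕ) : hpow w A k < 32 :=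
  iterate_mem (P := (· < 32)) (fun _ => hmul_lt (Or.inl rfl)) _ _ (by norm_num)

theorem Par.theta_lt (p : Par) (n : ℕ) : p.theta n < 32 :=
  iterate_mem (P := (· < 32)) (fun _ => hmul_lt (Or.inl rfl)) _ _
    (iterate_mem (P := (· < 32)) (fun _ => hmul_lt (Or.inl rfl)) _ _
      (iterate_mem (P := (· < 32)) (fun _ => hmul_lt (Or.inl rfl)) _ _ (by norm_num)))

theorem Par.stepT_lt (p : Par) (hG : p.G < 32) {n : ℕ} : p.stepT n < 64 := by
  rw [Par.stepT]
  split
  · have := p.theta_lt n; omega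
  · exact hmul_lt (Or.inr rfl) (by omega)

theorem Par.mul_lt (p : Par) (hG : p.G < 32) {m n : ℕ} (h : n < 64) : p.mul m n < 64 :=
  hmul_lt (Or.inr rfl) (iterate_mem (P := (· < 64)) (fun _ _ => p.stepT_lt hG) _ _ h)

theorem digits {r j a b q : ℕ} (hj : j < 8) (ha : a < 2) (hb : b < 2)
    (hr : r = j + 8 * a + 16 * b + 32 * q) :
    r % 8 = j ∧ r / 8 % 2 = a ∧ r / 16 % 2 = b ∧ r / 32 = q := by
  omega

/-! ### Soundness -/

variable {P : Type*} [Group P]

/-- The value of a code. -/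
def word (f x y t : P) (n : ℕ) : P :=
  f ^ (n % 8) * x ^ (n / 8 % 2) * y ^ (n / 16 % 2) * t ^ (n / 32)

/-- The relations of the subgroup of order 32. -/
structure Frame (w : ℕ) (f x y : P) : Prop where
  f8 : f ^ 8 = 1
  xx : x * x = 1
  yy : y * y = 1
  xf : x * f = f ^ 3 * x
  yf : y * f = f ^ 5 * y
  yx : y * x = f ^ w * x * y

/-- All relations. -/
structure Rel (p : Par) (f x y t : P) : Prop extends Frame p.w f x y where
  hG : p.G < 32
  hA : p.A < 32
  hB : p.B < 32
  hC : p.C < 32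
  tf : t * f = word f x y t p.A * t
  tx : t * x = word f x y t p.B * t
  ty : t * y = word f x y t p.C * t
  tt : t * t = word f x y t p.G

theorem iterate_word {g : ℕ → ℕ} {W : ℕ → P} {a : P} (h : ∀ n, W (g n) = a * W n) :
    ∀ k n, W (g^[k] n) = a ^ k * W n
  | 0, n => by simp
  | k + 1, n => by
    rw [Function.iterate_succ_apply', h, iterate_word h k n, pow_succ', mul_assoc]

theorem word_zero (f x y t : P) : word f x y t 0 = 1 := by simp [word]

theorem word_one (f x y t : P) : word f x y t 1 = f := by simp [word]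

theorem word_eight (f x y t : P) : word f x y t 8 = x := by simp [word]

theorem word_sixteen (f x y t : P) : word f x y t 16 = y := by simp [word]

theorem word_thirtytwo (f x y t : P) : word f x y t 32 = t := by simp [word]

theorem word_add {f x y t : P} {n : ℕ} (h : n < 32) :
    word f x y t (n + 32) = word f x y t n * t := by
  simp only [word]
  rw [show (n + 32) % 8 = n % 8 by omega, show (n + 32) / 8 % 2 = n / 8 % 2 by omega,
    show (n + 32) / 16 % 2 = n / 16 % 2 by omega, show (n + 32) / 32 = 1 by omega,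
    show n / 32 = 0 by omega, pow_zero, pow_one, mul_one]

theorem pow_sq_eq_one {a : P} (h : a * a = 1) (k : ℕ) : a ^ k = a ^ (k % 2) :=
  pow_eq_pow_mod k (by rw [pow_two, h])

namespace Frame

variable {w : ℕ} {f x y : P} (h : Frame w f x y) (t : P)
include h

theorem word_stepF (n : ℕ) : word f x y t (stepF n) = f * word f x y t n := by
  simp only [word, stepF]
  rw [show (n / 8 * 8 + (n % 8 + 1) % 8) % 8 = (n % 8 + 1) % 8 by omega,
    show (n / 8 * 8 + (n % 8 + 1) % 8) / 8 % 2 = n / 8 % 2 by omega,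
    show (n / 8 * 8 + (n % 8 + 1) % 8) / 16 % 2 = n / 16 % 2 by omega,
    show (n / 8 * 8 + (n % 8 + 1) % 8) / 32 = n / 32 by omega,
    ← pow_eq_pow_mod _ h.f8, pow_succ']
  simp only [mul_assoc]

theorem word_stepX (n : ℕ) : word f x y t (stepX n) = x * word f x y t n := by
  simp only [word, stepX]
  set i := n % 8
  set a := n / 8 % 2
  set b := n / 16 % 2
  have hi : i < 8 := Nat.mod_lt _ (by norm_num)
  have ha : a < 2 := Nat.mod_lt _ (by norm_num)
  have hb : b < 2 := Nat.mod_lt _ (by norm_num)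
  set r := (3 * i) % 8 + 8 * ((a + 1) % 2) + 16 * b + 32 * (n / 32) with hr
  obtain ⟨e1, e2, e3, e4⟩ := digits (Nat.mod_lt (3 * i) (by norm_num : 0 < 8))
    (Nat.mod_lt (a + 1) (by norm_num : 0 < 2)) hb hr
  rw [e1, e2, e3, e4,
    ← pow_eq_pow_mod _ h.f8, ← pow_sq_eq_one h.xx, pow_succ', pow_mul]
  have e : x * f ^ i = (f ^ 3) ^ i * x :=
    (show SemiconjBy x f (f ^ 3) from h.xf).pow_right i
  simp only [← mul_assoc]
  rw [e]

theorem y_pow (a : ℕ) (ha : a < 2) : y * x ^ a = f ^ (w * a) * x ^ a * y := by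
  rcases (show a = 0 ∨ a = 1 by omega) with rfl | rfl
  · simp
  · simpa using h.yx

theorem word_stepY (n : ℕ) : word f x y t (stepY w n) = y * word f x y t n := by
  simp only [word, stepY]
  set i := n % 8
  set a := n / 8 % 2
  set b := n / 16 % 2
  have ha : a < 2 := Nat.mod_lt _ (by norm_num)
  have hb : b < 2 := Nat.mod_lt _ (by norm_num)
  set j := (5 * i + w * a) % 8 with hj
  have hj8 : j < 8 := Nat.mod_lt _ (by norm_num)
  set r := j + 8 * a + 16 * ((b + 1) % 2) + 32 * (n / 32) with hr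
  obtain ⟨e1, e2, e3, e4⟩ := digits hj8 ha (Nat.mod_lt (b + 1) (by norm_num : 0 < 2)) hr
  rw [e1, e2, e3, e4, hj,
    ← pow_eq_pow_mod _ h.f8, ← pow_sq_eq_one h.yy, pow_add, pow_succ', pow_mul]
  have e : y * f ^ i = (f ^ 5) ^ i * y :=
    (show SemiconjBy y f (f ^ 5) from h.yf).pow_right i
  have e' := h.y_pow a ha
  calc (f ^ 5) ^ i * f ^ (w * a) * x ^ a * (y * y ^ b) * t ^ (n / 32)
      = (f ^ 5) ^ i * (f ^ (w * a) * x ^ a * y) * y ^ b * t ^ (n / 32) := by simp only [mul_assoc]
    _ = (f ^ 5) ^ i * (y * x ^ a) * y ^ b * t ^ (n / 32) := by rw [e']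
    _ = y * f ^ i * x ^ a * y ^ b * t ^ (n / 32) := by rw [e]; simp only [mul_assoc]
    _ = _ := by simp only [mul_assoc]

theorem word_hmul {m : ℕ} (hm : m < 32) (n : ℕ) :
    word f x y t (hmul w m n) = word f x y t m * word f x y t n := by
  rw [hmul, iterate_word (h.word_stepF t), iterate_word (h.word_stepX t),
    iterate_word (h.word_stepY t)]
  simp only [word, show m / 32 = 0 by omega, pow_zero, mul_one, mul_assoc]

theorem word_hpow {A : ℕ} (hA : A < 32) (k : ℕ) :
    word f x y t (hpow w A k) = word f x y t A ^ k := by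
  rw [hpow, iterate_word (h.word_hmul t hA), word_zero, mul_one]

end Frame

namespace Rel

variable {p : Par} {f x y t : P} (h : Rel p f x y t)
include h

theorem word_theta {n : ℕ} (hn : n < 32) :
    word f x y t (p.theta n) * t = t * word f x y t n := by
  rw [Par.theta, iterate_word (h.toFrame.word_hmul t h.hA), iterate_word (h.toFrame.word_hmul t h.hB),
    iterate_word (h.toFrame.word_hmul t h.hC), word_zero, mul_one]
  have ef := (show SemiconjBy t f (word f x y t p.A) from h.tf).pow_right (n % 8)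
  have ex := (show SemiconjBy t x (word f x y t p.B) from h.tx).pow_right (n / 8 % 2)
  have ey := (show SemiconjBy t y (word f x y t p.C) from h.ty).pow_right (n / 16 % 2)
  have e := ((ef.mul_right ex).mul_right ey).eq
  conv_rhs => rw [word, show n / 32 = 0 by omega, pow_zero, mul_one]
  rw [e]
  simp only [mul_assoc]

theorem word_stepT {n : ℕ} (hn : n < 64) : word f x y t (p.stepT n) = t * word f x y t n := by
  rw [Par.stepT]
  split
  · next h32 => rw [word_add (p.theta_lt n), h.word_theta h32]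
  · next h32 =>
    obtain ⟨k, hk, rfl⟩ : ∃ k, k < 32 ∧ n = k + 32 := ⟨n - 32, by omega, by omega⟩
    rw [Nat.add_sub_cancel, h.toFrame.word_hmul t (p.theta_lt k), word_add hk, ← h.tt, ← mul_assoc,
      h.word_theta hk, mul_assoc]

theorem word_mul {m n : ℕ} (hm : m < 64) (hn : n < 64) :
    word f x y t (p.mul m n) = word f x y t m * word f x y t n := by
  rw [Par.mul, h.toFrame.word_hmul t (by omega)]
  rcases (show m / 32 = 0 ∨ m / 32 = 1 by omega) with hc | hc <;> rw [hc]
  · rw [Function.iterate_zero_apply, Nat.mod_eq_of_lt (by omega)]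
  · rw [Function.iterate_one, h.word_stepT hn, ← mul_assoc, ← word_add (by omega),
      show m % 32 + 32 = m by omega]

end Rel

end CfsgLib.Spor.SixtyFour
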